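import Cfsg.Agent.Lib.Fusion.ProductRE.Basic
import Cfsg.Agent.Lib.Comp.EBalMainThm
import Cfsg.Agent.Lib.Comp.NormalCentralizer

/-!
The product of a normal subsystem with a normal subsystem on the subgroup it centralizes.
-/

set_option autoImplicit false
set_option linter.unusedVariables false
set_option linter.unusedSectionVars false
set_option linter.style.haveILetI false

universe u

namespace CfsgLib.Fusion.PRE

open Cfsg Cfsg.FusionSystem Subgroup CfsgLib.Fusion CfsgLib.Comp.Fus CfsgLib.Comp.CExt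
  CfsgLib.Comp.CProd

variable {Ω : Type u} [Group Ω] {S T T' Y : Subgroup Ω} {F : FusionSystem S}
  {E : FusionSystem T} {E' : FusionSystem T'} {p : ℕ}

/-- What is used of `E` and of the larger normal subsystem `E'`. -/
structure Data (F : FusionSystem S) (E : FusionSystem T) (E' : FusionSystem T') (Y : Subgroup Ω)
    (p : ℕ) : Prop where
  norm : E.IsNormalIn F p
  ctx : CfsgLib.Comp.EBal.Ctx F E' p
  eq : T' = T ⊔ Y
  closed : F.StronglyClosed Y
  comm : Y ≤ centralizerIn S T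
  res : ∀ P f, P ≤ T → IsMap E' P f → IsMap E P f
  ext : ∀ P f, IsMap E P f →
    ∃ g, IsMap E' (P ⊔ Y) g ∧ (∀ x ∈ P, g x = f x) ∧ ∀ y ∈ Y, g y = y

namespace Data

variable (hd : Data F E E' Y p)

include hd

theorem pS : IsPGroup p S := hd.ctx.pS

theorem sat : F.IsSaturated p := hd.norm.1.2.1

theorem closedT : F.StronglyClosed T := hd.norm.1.2.2.2.1

theorem leT : T ≤ S := hd.closedT.1

theorem leY : Y ≤ S := hd.closed.1

theorem commute {t y : Ω} (ht : t ∈ T) (hy : y ∈ Y) : t * y = y * t := (hd.comm hy).2 t ht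

theorem T_le : T ≤ T' := hd.eq ▸ le_sup_left

theorem Y_le : Y ≤ T' := hd.eq ▸ le_sup_right

theorem split {x : Ω} (hx : x ∈ T') : ∃ t ∈ T, ∃ y ∈ Y, t * y = x :=
  exists_split (fun t ht y hy => hd.commute ht hy) (hd.eq.le hx)

end Data

variable [Fact p.Prime] [Finite S] (hS : IsPGroup p S) (hE : E.IsNormalIn F p)

include hS hE

theorem exists_data : ∃ (T' Y : Subgroup Ω) (E' : FusionSystem T'), Data F E E' Y p := by
  obtain ⟨⟨hEs, hF, hinv⟩, -⟩ := id hE
  have hTS := hinv.2.1.1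
  haveI := finite_of_le hTS
  set Y := centGen F E with hYdef
  have hYC : Y ≤ centralizerIn S T := centGen_le
  have hEY := hom_subset_centGen hS hF hE
  have hYc : F.StronglyClosed Y := stronglyClosed_centGen hS hF hE
  have hmax : ∀ Y' : Subgroup Ω, Y' ≤ centralizerIn S T →
      (∀ P : Subgroup Ω, E.Hom P ⊆ F.centralizerHom Y' P) → Y' ≤ Y := fun Y' h1 h2 y hy =>
    Subgroup.subset_closure (cent_of_le h1 h2 hy)
  obtain ⟨C, hCn, hCT⟩ := CfsgLib.Comp.NCent.exists_normal_centralizer hS hF hE hYC hEY hmax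
  haveI := finite_of_le hYc.1
  have hcomm : ∀ a ∈ T, ∀ b ∈ Y, a * b = b * a := fun a ha b hb => (hYC hb).2 a ha
  have hA : F.StronglyClosed (T ⊓ Y) := CfsgLib.Comp.Meet.stronglyClosed_inf hE.1.2.2 hCn.1.2.2
  have hSet : Setup F E C p := by
    refine ⟨hS, hF, hE, hCn, hcomm, fun P f hf => ?_, fun P f hf => ?_⟩
    · obtain ⟨g, hg, hgx, -⟩ := (isNormal_iff.1 (isNormal_of_abelian_closed (hS.to_le hTS) hEs
        (stronglyClosed_of_sub hinv.1 hA inf_le_left)
        fun a ha b hb => hcomm a ha.1 b hb.2)).2 P f hf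
      refine ⟨g, hg, hgx, fun z hz => ?_⟩
      obtain ⟨φ, hφ, hφx⟩ := hg
      obtain ⟨-, -, h, -, hhx, hhQ⟩ :=
        (mem_centralizerHom_iff (f := g) hφx).1 (hEY _ hφ)
      rw [← hhx z (mem_sup_right hz)]
      exact hhQ z hz.2
    · obtain ⟨g, hg, hgx, -⟩ := (isNormal_iff.1 (isNormal_of_abelian_closed (hS.to_le hYc.1)
        hCn.1.1 (stronglyClosed_of_sub hCn.1.2.2.1 hA inf_le_right)
        fun a ha b hb => hcomm a ha.1 b hb.2)).2 P f hf
      refine ⟨g, hg, hgx, fun z hz => ?_⟩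
      obtain ⟨φ, hφ, hφx⟩ := hg
      obtain ⟨-, -, h, -, hhx, hhQ⟩ :=
        (mem_centralizerHom_iff (f := g) hφx).1 (hCT _ hφ)
      rw [← hhx z (mem_sup_right hz)]
      exact hhQ z hz.1
  refine ⟨T ⊔ Y, Y, prodSys hSet, ⟨hE, ⟨hS, hSet.isNormalIn, fun X hX hXE => ?_⟩, rfl, hYc, hYC,
    fun P f hP hf => CfsgLib.Comp.Lay.prod_res₁ hSet hP hf, fun P f hf => CfsgLib.Comp.Lay.prod_ext₁ hSet hf⟩⟩
  refine le_trans (hmax X (hX.trans (inf_le_inf_left S (Subgroup.centralizer_le (le_sup_left : T ≤ T ⊔ Y))))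
    fun P φ hφ => hXE P ?_) le_sup_right
  obtain ⟨g, hg, hgx, -⟩ := CfsgLib.Comp.Lay.prod_ext₁ hSet (isMap_of_hom hφ)
  exact ((hg.mono le_sup_left).congr hgx).mem_hom fun x => (toFun_apply φ x).symm

end CfsgLib.Fusion.PRE
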