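import Cfsg.Agent.Lib.Comp.MeetLift
import Cfsg.Agent.Lib.Comp.CommutingProduct
import Cfsg.Agent.Lib.Comp.ResidualLimit
import Cfsg.Agent.Lib.Fusion.SubsystemCentric

/-!
Preliminaries for the product of a normal subsystem with a subgroup: conjugates with several fully
normalized associated subgroups, automorphisms trivial on a fully centralized subgroup, and the
hyperfocal subgroup of a normal subsystem.
-/

set_option autoImplicit false
set_option linter.unusedVariables false
set_option linter.unusedSectionVars false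
set_option linter.style.haveILetI false

namespace CfsgLib.Fusion.PRE

open Cfsg Cfsg.FusionSystem Subgroup CfsgLib.Fusion CfsgLib.Comp.Fus

variable {Ω : Type*} [Group Ω] {S T U V W P Q K : Subgroup Ω} {F : FusionSystem S}
  {E : FusionSystem T} {f h : Ω → Ω} {p : ℕ}

/-- The meet with a strongly closed subgroup is carried to the meet. -/
theorem img_inf (hU : F.StronglyClosed U) (hf : IsMap F P f) :
    img (P ⊓ U) f = img P f ⊓ U := by
  refine le_antisymm (fun y hy => ?_) fun y hy => ?_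
  · obtain ⟨x, hx, rfl⟩ := (hf.mono inf_le_left).mem_img.1 hy
    exact ⟨hf.apply_mem_img hx.1, StronglyClosed.apply_mem hU hf hx.1 hx.2⟩
  · obtain ⟨x, hx, rfl⟩ := hf.mem_img.1 hy.1
    obtain ⟨k, hk, hkx, -, -⟩ := hf.exists_inv
    have h1 := StronglyClosed.apply_mem hU hk (hf.apply_mem_img hx) hy.2
    rw [hkx x hx] at h1
    exact (hf.mono inf_le_left).apply_mem_img ⟨hx, h1⟩

theorem normalizerIn_le_inf (hU : F.StronglyClosed U) :
    normalizerIn S P ≤ normalizerIn S (P ⊓ U) := fun s hs =>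
  ⟨hs.1, CfsgLib.Comp.le_normalizer_inf (M := normalizerIn S P) inf_le_right
    (fun a ha => StronglyClosed.le_normalizer hU ha.1) hs⟩

/-- A fully normalized subgroup stays so when moved along a map defined on a larger normalizer. -/
theorem fullyNormalized_img [Finite S] {ω : Ω → Ω} (hQ : F.IsFullyNormalized Q)
    (hN : normalizerIn S Q ≤ normalizerIn S K) (hω : IsMap F (normalizerIn S K) ω) :
    F.IsFullyNormalized (img Q ω) := by
  have hQN : Q ≤ normalizerIn S K := (le_normalizerIn hQ.1).trans hN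
  have hωQ := hω.mono hQN
  refine ⟨hωQ.img_le, fun R hR => (hQ.2 R (isConj_trans hωQ.isConj hR)).trans ?_⟩
  rw [← (hω.mono hN).card_img]
  haveI : Finite (normalizerIn S (img Q ω)) := finite_normalizerIn
  refine Subgroup.card_le_of_le fun y hy => ?_
  obtain ⟨x, hx, rfl⟩ := (hω.mono hN).mem_img.1 hy
  exact hω.apply_mem_normalizerIn hQN (hN hx) hx.2

section Saturated

variable [Fact p.Prime] [Finite S] (hS : IsPGroup p S) (hF : F.IsSaturated p)

include hS hF

/-- A member of each class is fully normalized, as is its meet with a strongly closed subgroup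
and that meet times its centralizer in another one. -/
theorem exists_rep (hU : F.StronglyClosed U) (hT : F.StronglyClosed T) (hP : P ≤ S) :
    ∃ f, IsMap F P f ∧ F.IsFullyNormalized (img P f) ∧ F.IsFullyNormalized (img P f ⊓ U) ∧
      F.IsFullyNormalized ((img P f ⊓ U) ⊔ centralizerIn T (img P f ⊓ U)) := by
  obtain ⟨W, hW, hWn⟩ := exists_fullyNormalized_conj F hP
  obtain ⟨g, hg, rfl⟩ := isConj_iff.1 hW
  -- the meet
  obtain ⟨V₁, hV₁, hV₁n⟩ :=
    exists_fullyNormalized_conj F (inf_le_left.trans hWn.1 : img P g ⊓ U ≤ S)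
  obtain ⟨ψ, hψ, hψi, -⟩ := exists_map_normalizerIn_of_fullyNormalized hS hF hV₁n hV₁
  have hPV : normalizerIn S (img P g) ≤ normalizerIn S (img P g ⊓ U) := normalizerIn_le_inf hU
  have hgN : img P g ≤ normalizerIn S (img P g ⊓ U) := (le_normalizerIn hWn.1).trans hPV
  have h1n := fullyNormalized_img hWn hPV hψ
  have hψg := hψ.mono hgN
  set W₁ := img (img P g) ψ with hW₁
  have hW₁U : W₁ ⊓ U = V₁ := by rw [hW₁, ← img_inf hU hψg, hψi]
  -- the meet times its centralizer
  set V := W₁ ⊓ U with hVdef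
  have hVn : F.IsFullyNormalized V := hW₁U.symm ▸ hV₁n
  set L := V ⊔ centralizerIn T V with hLdef
  have hLS : L ≤ S := sup_le hVn.1 (inf_le_left.trans hT.1)
  have hCn : normalizerIn S V ≤ normalizerIn S L := fun s hs => ⟨hs.1,
    CfsgLib.Comp.le_normalizer_sup (M := normalizerIn S V) inf_le_right
      (CfsgLib.Comp.le_normalizer_inf (inf_le_left.trans (StronglyClosed.le_normalizer hT))
        (inf_le_right.trans (CfsgLib.Comp.normalizer_le_normalizer_centralizer V))) hs⟩
  obtain ⟨L₁, hL₁, hL₁n⟩ := exists_fullyNormalized_conj F hLS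
  obtain ⟨ω, hω, hωi, -⟩ := exists_map_normalizerIn_of_fullyNormalized hS hF hL₁n hL₁
  have hWV : normalizerIn S W₁ ≤ normalizerIn S V := normalizerIn_le_inf hU
  have h2n := fullyNormalized_img h1n (hWV.trans hCn) hω
  have hV2n := fullyNormalized_img hVn hCn hω
  have hW₁N : W₁ ≤ normalizerIn S L := ((le_normalizerIn h1n.1).trans hWV).trans hCn
  have hωW := hω.mono hW₁N
  have hVe : img V ω = img W₁ ω ⊓ U := by rw [hVdef, img_inf hU hωW]
  have hcomp : IsMap F P (fun x => ψ (g x)) := hg.comp hψg fun x hx => hg.apply_mem_img hx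
  have hi1 : img P (fun x => ψ (g x)) = W₁ := img_comp_eq hg hψg fun x hx => hg.apply_mem_img hx
  have hcomp2 : IsMap F P (fun x => ω (ψ (g x))) :=
    hcomp.comp hωW fun x hx => hψg.apply_mem_img (hg.apply_mem_img hx)
  have hi2 : img P (fun x => ω (ψ (g x))) = img W₁ ω := by
    rw [img_comp_eq hcomp hωW fun x hx => hψg.apply_mem_img (hg.apply_mem_img hx), hi1]
  refine ⟨_, hcomp2, hi2.symm ▸ h2n, ?_, ?_⟩
  · rw [hi2, ← hVe]; exact hV2n
  rw [hi2, ← hVe]
  -- the centralizer in `T` is carried onto the centralizer in `T`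
  have hVN : V ≤ normalizerIn S L := (le_normalizerIn hVn.1).trans hCn
  have hCN : centralizerIn T V ≤ normalizerIn S L :=
    (le_inf (inf_le_left.trans hT.1) (inf_le_right.trans
      (Subgroup.centralizer_le_normalizer (s := (V : Set Ω))))).trans hCn
  obtain ⟨k, hk, hki, -⟩ :=
    exists_map_normalizerIn_of_fullyNormalized hS hF hVn (isConj_symm (hω.mono hVN).isConj)
  haveI : Finite (centralizerIn T V) := finite_of_le (inf_le_left.trans hT.1)
  haveI : Finite (centralizerIn T (img V ω)) := finite_of_le (inf_le_left.trans hT.1)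
  have hk' : centralizerIn T (img V ω) ≤ normalizerIn S (img V ω) :=
    le_inf (inf_le_left.trans hT.1)
      (inf_le_right.trans (Subgroup.centralizer_le_normalizer (s := (img V ω : Set Ω))))
  have hle : Nat.card (centralizerIn T (img V ω)) ≤ Nat.card (centralizerIn T V) := by
    rw [← (hk.mono hk').card_img]
    refine Subgroup.card_le_of_le fun y hy => ?_
    obtain ⟨x, hx, rfl⟩ := (hk.mono hk').mem_img.1 hy
    refine ⟨StronglyClosed.apply_mem hT hk (hk' hx) hx.1, ?_⟩
    have h3 := (hk.apply_mem_centralizerIn (le_normalizerIn hV2n.1) (hk' hx) hx.2).2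
    rwa [hki] at h3
  have hCe : img (centralizerIn T V) ω = centralizerIn T (img V ω) := by
    refine eq_of_le_of_card_le (fun y hy => ?_) (hle.trans (hω.mono hCN).card_img.ge)
    obtain ⟨x, hx, rfl⟩ := (hω.mono hCN).mem_img.1 hy
    exact ⟨StronglyClosed.apply_mem hT hω (hCN hx) hx.1,
      (hω.apply_mem_centralizerIn hVN (hCN hx) hx.2).2⟩
  rw [← hCe, ← hω.img_sup hVN hCN, ← hLdef, hωi]
  exact hL₁n

/-- An automorphism of `V C_S(V)` trivial on the fully centralized `V` and on the quotient by it is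
conjugation by an element of `C_S(V)`. -/
theorem exists_conj_centralizer (hV : F.IsFullyCentralized V)
    (hfix : IsMap F (V ⊔ centralizerIn S V) f) (hfV : ∀ v ∈ V, f v = v)
    (hfC : ∀ c ∈ centralizerIn S V, c⁻¹ * f c ∈ V) :
    ∃ c ∈ centralizerIn S V, ∀ x ∈ V ⊔ centralizerIn S V, f x = c * x * c⁻¹ := by
  set C := centralizerIn S V with hC
  have hsys := isCentralizerSystem_centralizerSys F V hV.1
  set D := centralizerSys F V hV.1
  haveI : Finite C := finite_centralizerIn
  have hCp : IsPGroup p C := hS.to_le inf_le_left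
  have hDs : D.IsSaturated p := isSaturated_centralizerSystem hS hF hV hsys
  have hfCC : ∀ x ∈ C, f x ∈ C := fun x hx => by
    have h1 := hfix.apply_mem_centralizerIn le_sup_left (mem_sup_right hx) hx.2
    rwa [show img V f = V from (img_congr (g := id) hfV).trans (by simp [img])] at h1
  have hfD : IsMap D C f := (isMap_centralizerSystem_iff hsys).2
    ⟨le_rfl, hfCC, f, hfix.mono (sup_comm C V).le, fun _ _ => rfl, hfV⟩
  have hi : img C f = C := eq_of_le_of_card_le (fun y hy => by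
    obtain ⟨x, hx, rfl⟩ := hfD.mem_img.1 hy
    exact hfCC x hx) hfD.card_img.ge
  set γ := hfD.toAut hi with hγ
  obtain ⟨m, hm⟩ := IsPGroup.iff_card.1 hS
  have hγp : γ ^ p ^ m = 1 := MulEquiv.ext fun x => Subtype.ext (by
    rw [hγ, toAut_pow_coe hfD hi]
    have hwV : (x : Ω)⁻¹ * f x ∈ V := hfC x x.2
    have hstep : ∀ i : ℕ, f^[i] (x : Ω) = x * ((x : Ω)⁻¹ * f x) ^ i := fun i => by
      induction i with
      | zero => simp
      | succ i ih =>
        rw [Function.iterate_succ_apply', ih, hfix.map_mul (mem_sup_right x.2)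
          (mem_sup_left (V.pow_mem hwV i)), hfV _ (V.pow_mem hwV i), pow_succ', ← mul_assoc,
          mul_inv_cancel_left]
    have h1 := pow_card_eq_one' (x := (⟨_, hV.1 hwV⟩ : S))
    rw [hm] at h1
    rw [hstep, show ((x : Ω)⁻¹ * f x) ^ p ^ m = 1 from congrArg Subtype.val h1, mul_one]
    rfl)
  have hpz : IsPGroup p (Subgroup.zpowers γ) := by
    rintro ⟨_, n, rfl⟩
    refine ⟨m, Subtype.ext ?_⟩
    show (γ ^ n) ^ p ^ m = 1
    rw [← zpow_natCast, ← zpow_mul, mul_comm, zpow_mul, zpow_natCast, hγp, one_zpow]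
  obtain ⟨β, hβ, hβc⟩ := exists_conj_le_autInducedBy
    (fullyAutomized_of_fullyNormalized hCp hDs (fullyNormalized_top D)) _ hpz
    (Subgroup.zpowers_le.2 (hfD.toAut_mem hi))
  obtain ⟨b, hb, hbx⟩ := mem_autInducedBy_iff.1 (hβc γ (mem_zpowers γ))
  set a : C := β⁻¹ ⟨b, hb⟩ with ha
  refine ⟨a, a.2, fun x hx => ?_⟩
  have hfc : ∀ y : C, f y = (a : Ω) * y * (a : Ω)⁻¹ := fun y => by
    have h1 := hbx (β y)
    rw [MulAut.mul_apply, MulAut.mul_apply, MulAut.inv_apply_self] at h1
    have h2 : β (γ y) = ⟨b, hb⟩ * β y * ⟨b, hb⟩⁻¹ := Subtype.ext h1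
    have h3 : γ y = a * y * a⁻¹ := by
      rw [← MulAut.inv_apply_self C β (γ y), h2, map_mul, map_mul, map_inv,
        MulAut.inv_apply_self, ha]
    rw [← IsMap.toAut_apply hfD hi y, ← hγ, h3]
    rfl
  obtain ⟨v, hv, c, hc, rfl⟩ := CfsgLib.Comp.CProd.exists_split
    (fun v hv c (hc : c ∈ C) => hc.2 v hv) hx
  rw [hfix.map_mul (mem_sup_left hv) (mem_sup_right hc), hfV v hv, hfc ⟨c, hc⟩,
    show (a : Ω) * (v * c) * (a : Ω)⁻¹ = ((a : Ω) * v * (a : Ω)⁻¹) * ((a : Ω) * c * (a : Ω)⁻¹) by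
      group]
  congr 1
  rw [← a.2.2 v hv, mul_inv_cancel_right]

end Saturated

/-- A periodic map of order prime to `p`, trivial on `x⁻¹ h(x)` modulo a normal subgroup, is
trivial on `x` modulo it. -/
theorem sub_mem_of_coprime [Fact p.Prime] [Finite S] (hS : IsPGroup p S) (hh : IsMap F W h)
    (hhW : ∀ x ∈ W, h x ∈ W) (hVW : V ≤ W) (hWn : W ≤ normalizer (V : Set Ω))
    (hhV : ∀ v ∈ V, h v ∈ V) {x : Ω} (hx : x ∈ W)
    (hw : (x⁻¹ * h x)⁻¹ * h (x⁻¹ * h x) ∈ V) {n : ℕ} (hn : n.Coprime p) (hper : h^[n] x = x) :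
    x⁻¹ * h x ∈ V := by
  set w := x⁻¹ * h x with hwdef
  have hwW : w ∈ W := W.mul_mem (W.inv_mem hx) (hhW x hx)
  have hpow : ∀ i : ℕ, (w ^ i)⁻¹ * h (w ^ i) ∈ V := fun i => by
    induction i with
    | zero => simp [hh.map_one]
    | succ i ih =>
      rw [hh.map_pow hwW, pow_succ, pow_succ, ← hh.map_pow hwW,
        show (w ^ i * w)⁻¹ * (h (w ^ i) * h w) =
          (w⁻¹ * ((w ^ i)⁻¹ * h (w ^ i)) * w) * (w⁻¹ * h w) by group]
      exact V.mul_mem ((Subgroup.mem_normalizer_iff''.1 (hWn hwW) _).1 ih) hw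
  have hstep : ∀ i : ℕ, ∃ v ∈ V, h^[i] x = x * w ^ i * v := fun i => by
    induction i with
    | zero => exact ⟨1, V.one_mem, by simp⟩
    | succ i ih =>
      obtain ⟨v, hv, e⟩ := ih
      refine ⟨((w ^ i)⁻¹ * h (w ^ i)) * h v, V.mul_mem (hpow i) (hhV v hv), ?_⟩
      rw [Function.iterate_succ_apply', e, hh.map_mul (W.mul_mem hx (W.pow_mem hwW i)) (hVW hv),
        hh.map_mul hx (W.pow_mem hwW i), show h x = x * w by rw [hwdef, mul_inv_cancel_left],
        pow_succ']
      group
  obtain ⟨v, hv, e⟩ := hstep n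
  rw [hper, mul_assoc, left_eq_mul] at e
  have hwn : w ^ n ∈ V := by rw [eq_inv_of_mul_eq_one_left e]; exact V.inv_mem hv
  obtain ⟨k, hk⟩ := hS ⟨w, hh.le hwW⟩
  have hk' : w ^ p ^ k = 1 := congrArg Subtype.val hk
  obtain ⟨d, hd0, hd1⟩ := Nat.chineseRemainder (hn.pow_right k) 0 1
  obtain ⟨q, rfl⟩ := Nat.modEq_zero_iff_dvd.1 hd0
  have hwd : w ^ (n * q) = w ^ 1 :=
    pow_eq_pow_iff_modEq.2 (hd1.of_dvd (orderOf_dvd_of_pow_eq_one hk'))
  rw [pow_one, pow_mul] at hwd
  exact hwd ▸ V.pow_mem hwn q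

section Normal

variable [Fact p.Prime] [Finite S] (hS : IsPGroup p S) (hE : E.IsNormalIn F p)

include hS hE

/-- The hyperfocal subgroup of a normal subsystem is strongly closed. -/
theorem hyperfocal_closed : F.StronglyClosed (E.hyperfocalSubgroup p) := by
  obtain ⟨⟨hEsat, hF, hinv⟩, -⟩ := id hE
  obtain ⟨hsub, hsc, hconj, hfrat⟩ := isInvariantIn_iff.1 hinv
  haveI := finite_of_le hsc.1
  have hTp := hS.to_le hsc.1
  set U := E.hyperfocalSubgroup p with hUdef
  have hUT : U ≤ T := hyperfocal_le E p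
  have hUE : E.StronglyClosed U := stronglyClosed_of_hyperfocal_le hTp hEsat hUT le_rfl
    fun a ha y hy => conj_mem_hyperfocal ha hy
  refine stronglyClosed_iff.2 ⟨hUT.trans hsc.1, fun R f hR hf x hx => ?_⟩
  obtain ⟨a, ha, e, he, hfx⟩ := hfrat R f (hR.trans hUT) hf
  rw [hfx x hx]
  have h1 : e x ∈ U := (stronglyClosed_iff.1 hUE).2 R e hR he x hx
  suffices h2 : ∀ y ∈ U, y ∈ T ∧ a y ∈ U from (h2 _ h1).2
  intro y hy
  rw [hUdef] at hy ⊢
  induction hy using Subgroup.closure_induction with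
  | one => exact ⟨T.one_mem, by rw [ha.map_one]; exact one_mem _⟩
  | mul y z _ _ hy hz =>
    exact ⟨T.mul_mem hy.1 hz.1, by rw [ha.map_mul hy.1 hz.1]; exact mul_mem hy.2 hz.2⟩
  | inv y _ hy => exact ⟨T.inv_mem hy.1, by rw [ha.map_inv hy.1]; exact inv_mem hy.2⟩
  | mem y hy =>
    refine ⟨hUT (Subgroup.subset_closure hy), ?_⟩
    obtain ⟨P, α, x, hP, hα, rfl⟩ := hy
    haveI := finite_of_le hP
    set θ := MulAut.congr (ha.mono hP).equivImg with hθ
    have hxP : (x : Ω) ∈ T := hP x.2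
    have hmem : ∀ δ ∈ E.autGroup P, θ δ ∈ E.autGroup (img P a) := fun δ hδ =>
      congr_mem_of_invariant hinv (ha.mono hP) hP hδ
    let θ' : E.autGroup P →* E.autGroup (img P a) :=
      (θ.toMonoidHom.comp (E.autGroup P).subtype).codRestrict _ fun δ => hmem δ δ.2
    have hθ' : θ' α ∈ pResidual p (E.autGroup (img P a)) := by
      have : (pResidual p (E.autGroup P)).map θ' ≤ pResidual p (E.autGroup (img P a)) := by
        rw [Subgroup.map_le_iff_le_comap]
        refine (Subgroup.closure_le _).2 fun δ hδ => CfsgLib.Transfer.mem_pResidual_of_coprime ?_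
        exact Nat.Coprime.coprime_dvd_left (orderOf_map_dvd θ' δ) hδ
      exact this ⟨α, hα, rfl⟩
    have hPaT : img P a ≤ T := fun z hz => by
      obtain ⟨u, hu, rfl⟩ := (ha.mono hP).mem_img.1 hz
      exact StronglyClosed.apply_mem hsc ha (hP hu) (hP hu)
    have h3 := sub_mem_hyperfocal hPaT (θ' α).2 hθ' ((ha.mono hP).equivImg x)
    have e1 : ((θ' α : MulAut (img P a)) ((ha.mono hP).equivImg x)) =
        (ha.mono hP).equivImg ((α : MulAut P) x) := by
      show (ha.mono hP).equivImg ((α : MulAut P) ((ha.mono hP).equivImg.symm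
        ((ha.mono hP).equivImg x))) = _
      rw [MulEquiv.symm_apply_apply]
    rw [e1, IsMap.coe_equivImg, IsMap.coe_equivImg] at h3
    rwa [ha.map_mul (T.inv_mem hxP) (hP (Subtype.mem _)), ha.map_inv hxP]

end Normal

end CfsgLib.Fusion.PRE
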