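import Cfsg.Agent.Lib.Fusion.ProductRE.Basic

/-!
Automorphisms of order prime to `p`, trivial modulo the hyperfocal subgroup `U` of a normal
subsystem and inducing on `P ∩ U` a map of the subsystem, are determined there up to conjugation by
the centre of `P ∩ U`.
-/

set_option autoImplicit false
set_option linter.unusedVariables false
set_option linter.unusedSectionVars false
set_option linter.style.haveILetI false

namespace CfsgLib.Fusion.PRE

open Cfsg Cfsg.FusionSystem Subgroup CfsgLib.Fusion CfsgLib.Comp.Fus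

variable {Ω : Type*} [Group Ω] {S T V P : Subgroup Ω} {F : FusionSystem S}
  {E : FusionSystem T} {p : ℕ}

theorem img_self {f : Ω → Ω} [Finite P] (hf : IsMap F P f) (h : ∀ x ∈ P, f x ∈ P) :
    img P f = P :=
  eq_of_le_of_card_le (fun y hy => by
    obtain ⟨x, hx, rfl⟩ := hf.mem_img.1 hy
    exact h x hx) hf.card_img.ge

theorem autFun_pow (α : MulAut P) (i : ℕ) (x : P) :
    (autFun α)^[i] (x : Ω) = (((α ^ i) x : P) : Ω) := by
  induction i with
  | zero => simp
  | succ i ih =>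
    rw [Function.iterate_succ_apply', ih, autFun_apply α (Subtype.mem _), pow_succ',
      MulAut.mul_apply]

/-- A map agreeing on a stable subgroup with an automorphism of coprime order has coprime order
there. -/
theorem coprime_toAut {R : Subgroup Ω} {f : Ω → Ω} {α : MulAut P} (hα : (orderOf α).Coprime p)
    (hRP : R ≤ P) (hf : IsMap F R f) (hi : img R f = R)
    (hx : ∀ x ∈ R, f x = autFun α x) : (orderOf (hf.toAut hi)).Coprime p := by
  refine hα.coprime_dvd_left (orderOf_dvd_of_pow_eq_one (MulEquiv.ext fun x => Subtype.ext ?_))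
  rw [toAut_pow_coe hf hi]
  have hR : ∀ y ∈ R, f y ∈ R := fun y hy => hi.le (hf.apply_mem_img hy)
  have h : ∀ i : ℕ, f^[i] (x : Ω) = (autFun α)^[i] x := fun i => by
    induction i with
    | zero => rfl
    | succ i ih =>
      rw [Function.iterate_succ_apply', Function.iterate_succ_apply',
        hx _ (iterate_mem hR i x.2), ih]
  rw [h, autFun_pow α _ ⟨x, hRP x.2⟩, pow_orderOf_eq_one]
  rfl

theorem coprime_toAut_of_periodic {f : Ω → Ω} (hf : IsMap F P f) (hi : img P f = P) {n : ℕ}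
    (hn : n.Coprime p) (hper : ∀ x ∈ P, f^[n] x = x) : (orderOf (hf.toAut hi)).Coprime p :=
  hn.coprime_dvd_left (orderOf_dvd_of_pow_eq_one (MulEquiv.ext fun x => Subtype.ext (by
    rw [toAut_pow_coe hf hi]; exact hper x x.2)))

/-- A fully centralized subgroup times its centralizer is centric. -/
theorem centric_sup_centralizerIn [Finite S] (hV : F.IsFullyCentralized V) :
    F.IsCentric (V ⊔ centralizerIn S V) := by
  refine ⟨sup_le hV.1 inf_le_left, fun R hR => ?_⟩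
  obtain ⟨f, hf, rfl⟩ := isConj_iff.1 hR
  haveI : Finite (centralizerIn S (img V f)) := finite_centralizerIn
  have hfC := hf.mono (le_sup_right : centralizerIn S V ≤ _)
  have e : img (centralizerIn S V) f = centralizerIn S (img V f) := by
    refine eq_of_le_of_card_le (fun y hy => ?_)
      ((hV.2 _ (hf.mono le_sup_left).isConj).trans hfC.card_img.ge)
    obtain ⟨x, hx, rfl⟩ := hfC.mem_img.1 hy
    exact hf.apply_mem_centralizerIn le_sup_left (mem_sup_right hx) hx.2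
  intro x hx
  exact img_mono le_sup_right (e.ge ⟨hx.1, Subgroup.centralizer_le (img_mono le_sup_left) hx.2⟩)

variable [Fact p.Prime] [Finite S] (hS : IsPGroup p S) (hE : E.IsNormalIn F p)

include hS hE

/-- The key uniqueness property for fully normalized data. -/
theorem key_normalized (hP : F.IsFullyNormalized P)
    (hV : F.IsFullyNormalized (P ⊓ E.hyperfocalSubgroup p))
    (hL : F.IsFullyNormalized ((P ⊓ E.hyperfocalSubgroup p) ⊔
      centralizerIn T (P ⊓ E.hyperfocalSubgroup p)))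
    (hcen : centralizerIn (E.hyperfocalSubgroup p) (P ⊓ E.hyperfocalSubgroup p) ≤
      P ⊓ E.hyperfocalSubgroup p)
    {α δ : MulAut P} (hα : α ∈ F.autGroup P) (hδ : δ ∈ F.autGroup P)
    (hαc : (orderOf α).Coprime p) (hδc : (orderOf δ).Coprime p)
    (hαU : ∀ x : P, (x : Ω)⁻¹ * ((α x : P) : Ω) ∈ E.hyperfocalSubgroup p)
    (hδU : ∀ x : P, (x : Ω)⁻¹ * ((δ x : P) : Ω) ∈ E.hyperfocalSubgroup p)
    (heq : ∀ x : P, (x : Ω) ∈ E.hyperfocalSubgroup p → α x = δ x)
    (hαE : IsMap E (P ⊓ E.hyperfocalSubgroup p) (autFun α)) :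
    ∃ z ∈ P ⊓ E.hyperfocalSubgroup p,
      z ∈ centralizer ((P ⊓ E.hyperfocalSubgroup p : Subgroup Ω) : Set Ω) ∧
      ∀ x : P, ((α x : P) : Ω) = autFun δ (z * x * z⁻¹) := by
  obtain ⟨⟨hEsat, hF, hinv⟩, -⟩ := id hE
  have hsc : F.StronglyClosed T := hinv.2.1
  have hsub : E.IsSubsystemOf F := hinv.1
  have hUc := hyperfocal_closed hS hE
  set U := E.hyperfocalSubgroup p with hUdef
  set V := P ⊓ U with hVdef
  have hTS := hsc.1
  haveI := finite_of_le hTS
  have hTp := hS.to_le hTS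
  have hUT : U ≤ T := hyperfocal_le E p
  have hVT : V ≤ T := inf_le_right.trans hUT
  have hPS := hP.1
  haveI := finite_of_le hPS
  haveI := finite_of_le hV.1
  -- the automorphism of `V`
  have hαm : IsMap F P (autFun α) := isMap_autFun hPS hα
  have hαV : ∀ x ∈ V, autFun α x ∈ V := fun x hx =>
    ⟨autFun_mem α hx.1, StronglyClosed.apply_mem hUc hαm hx.1 hx.2⟩
  have hiV := img_self hαE hαV
  have hβc := coprime_toAut hαc (inf_le_left : V ≤ P) hαE hiV fun _ _ => rfl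
  -- the extension to `L` in the subsystem
  have hVE := fullyCentralized_of_fullyNormalized hTp hEsat
    (fullyNormalized_subsystem hS hF hsc hsub hVT hV)
  set L := V ⊔ centralizerIn T V with hLdef
  have hLT : L ≤ T := sup_le hVT inf_le_left
  have hLE : E.IsCentric L := centric_sup_centralizerIn hVE
  obtain ⟨e₀, he₀, he₀x⟩ :=
    receptive_extend_centralizer (receptive_of_fullyCentralized hTp hEsat hVE) hαE hiV
  have he₀V : img V e₀ = V := (img_congr he₀x).trans hiV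
  have he₀L : ∀ x ∈ L, e₀ x ∈ L := fun x hx => by
    refine he₀.img_sup_le le_sup_left le_sup_right ?_ ?_ (he₀.apply_mem_img hx)
    · rw [he₀V]; exact le_sup_left
    · intro y hy
      obtain ⟨u, hu, rfl⟩ := (he₀.mono le_sup_right).mem_img.1 hy
      have h := he₀.apply_mem_centralizerIn le_sup_left (mem_sup_right hu) hu.2
      rw [he₀V] at h
      exact mem_sup_right h
  obtain ⟨i₀, n₀, hn₀, he₀i, he₀per⟩ := exists_coprime_power he₀ he₀L le_sup_left hβc
    fun x => (he₀x x x.2).trans (IsMap.toAut_apply hαE hiV x).symm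
  set e := e₀^[i₀] with hedef
  have he : IsMap E L e := isMap_iterate he₀ he₀L i₀
  haveI := finite_of_le (hLT.trans hTS)
  have heL : ∀ x ∈ L, e x ∈ L := fun x hx => iterate_mem he₀L i₀ hx
  have hei := img_self he heL
  have hex : ∀ x ∈ V, e x = autFun α x := fun x hx =>
    (he₀i ⟨x, hx⟩).trans (IsMap.toAut_apply hαE hiV ⟨x, hx⟩)
  set a := he.toAut hei with hadef
  have haE : a ∈ E.autGroup L := he.toAut_mem hei
  have hac : (orderOf a).Coprime p := coprime_toAut_of_periodic he hei hn₀ he₀per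
  have han : a ^ n₀ = 1 := MulEquiv.ext fun x => Subtype.ext (by
    rw [hadef, toAut_pow_coe he hei]; exact he₀per x x.2)
  have hUL : ∀ l ∈ L, l ∈ U → l ∈ V := fun l hl hlU => by
    obtain ⟨v, hv, c, hc, rfl⟩ := CfsgLib.Comp.CProd.exists_split
      (fun v hv c (hc : c ∈ centralizerIn T V) => hc.2 v hv) hl
    have hcU : c ∈ U := by simpa using U.mul_mem (U.inv_mem hv.2) hlU
    exact V.mul_mem hv (hcen ⟨hcU, hc.2⟩)
  have haV : ∀ l ∈ L, l⁻¹ * e l ∈ V := fun l hl => by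
    refine hUL _ (L.mul_mem (L.inv_mem hl) (heL l hl)) ?_
    have h := sub_mem_hyperfocal_of_coprime hLT haE hac ⟨l, hl⟩
    rwa [hadef, IsMap.toAut_apply] at h
  -- the lift
  set C := centralizerIn S V with hCdef
  have hNVL : normalizerIn S V ≤ normalizerIn S L := fun s hs => ⟨hs.1,
    CfsgLib.Comp.le_normalizer_sup (M := normalizerIn S V) inf_le_right
      (CfsgLib.Comp.le_normalizer_inf (inf_le_left.trans (StronglyClosed.le_normalizer hsc))
        (inf_le_right.trans (CfsgLib.Comp.normalizer_le_normalizer_centralizer V))) hs⟩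
  have hC : C ≤ normalizer (L : Set Ω) :=
    (centralizerIn_le_normalizerIn.trans hNVL).trans inf_le_right
  obtain ⟨g₀, hg₀, hg₀a, hg₀T⟩ := exists_ext_centralizer hS hE (le_sup_left : V ≤ L) hLT
    (hLE.2 L (isConj_refl hLT)) hL hC
    (exists_lift hS hE hLE (fullyCentralized_of_fullyNormalized hS hF hL) haE) hn₀ han
    fun c hc => by
      set κ : MulAut L := L.normalizerMonoidHom ⟨c, hC hc⟩ with hκdef
      have hκF : κ ∈ F.autGroup L := autInducedBy_le_autGroup (hLT.trans hTS)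
        (mem_autInducedBy_iff.2 ⟨c, hc.1, fun x => rfl⟩)
      have hγ : κ⁻¹ * a * κ * a⁻¹ ∈ E.autGroup L := by
        have h := CfsgLib.Comp.Fus.autGroup_conj_mem hinv hLT (inv_mem hκF) haE
        rw [inv_inv] at h
        exact mul_mem h (inv_mem haE)
      set γ := κ⁻¹ * a * κ * a⁻¹ with hγdef
      have hκi : ∀ y : L, ((κ⁻¹ y : L) : Ω) = c⁻¹ * y * c := fun y => by
        rw [hκdef, ← map_inv]
        show c⁻¹ * (y : Ω) * c⁻¹⁻¹ = _
        rw [inv_inv]
      have hγa : ∀ x : L, ((γ (a x) : L) : Ω) = c⁻¹ * e (c * x * c⁻¹) * c := fun x => by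
        rw [hγdef, MulAut.mul_apply, MulAut.inv_apply_self, MulAut.mul_apply, MulAut.mul_apply,
          hκi, hadef, IsMap.toAut_apply]
        rfl
      have hcv : ∀ v ∈ V, c⁻¹ * v * c = v := fun v hv => by
        rw [mul_assoc, hc.2 v hv, inv_mul_cancel_left]
      have hγV : ∀ v ∈ V, autFun γ v = v := fun v hv => by
        obtain ⟨x, hx, hxv⟩ := (he.mono le_sup_left).mem_img.1
          (((img_congr hex).trans hiV).ge hv)
        have ea : a ⟨x, mem_sup_left hx⟩ = ⟨v, mem_sup_left hv⟩ :=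
          Subtype.ext ((IsMap.toAut_apply he hei _).trans hxv)
        rw [autFun_apply γ (mem_sup_left hv), ← ea, hγa]
        show c⁻¹ * e (c * x * c⁻¹) * c = _
        rw [show c * x * c⁻¹ = x by rw [← hc.2 x hx, mul_inv_cancel_right], hxv, hcv v hv]
      have hγC : ∀ d ∈ centralizerIn T V, d⁻¹ * autFun γ d ∈ V := fun d hd => by
        obtain ⟨x, hx⟩ := a.surjective ⟨d, mem_sup_right hd⟩
        have hxd : e x = d := (IsMap.toAut_apply he hei x).symm.trans (congrArg Subtype.val hx)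
        have hu : c * (x : Ω) * c⁻¹ ∈ L := (hC hc x).1 x.2
        rw [autFun_apply γ (mem_sup_right hd), ← hx, hγa]
        show d⁻¹ * _ ∈ V
        set v₁ := (c * (x : Ω) * c⁻¹)⁻¹ * e (c * (x : Ω) * c⁻¹) with hv₁
        have hv₁V : v₁ ∈ V := haV _ hu
        have hv₂V : (x : Ω)⁻¹ * d ∈ V := hxd ▸ haV _ x.2
        rw [show d⁻¹ * (c⁻¹ * e (c * (x : Ω) * c⁻¹) * c) =
          ((x : Ω)⁻¹ * d)⁻¹ * (c⁻¹ * v₁ * c) by rw [hv₁]; group, hcv _ hv₁V]
        exact V.mul_mem (V.inv_mem hv₂V) hv₁V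
      obtain ⟨z, hz, hzy⟩ :=
        exists_conj_centralizer hTp hEsat hVE (isMap_autFun hLT hγ) hγV hγC
      refine ⟨z, mem_sup_right hz, fun x => ?_⟩
      have h := hzy _ (a x).2
      rw [autFun_apply γ (a x).2, hγa] at h
      rw [show ((a (κ x) : L) : Ω) = e (c * x * c⁻¹) from IsMap.toAut_apply he hei _]
      calc e (c * x * c⁻¹) = c * (c⁻¹ * e (c * x * c⁻¹) * c) * c⁻¹ := by group
        _ = _ := by rw [h]; group
  -- the lift made periodic
  have hg₀x : ∀ x ∈ L, g₀ x = e x := fun x hx =>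
    (hg₀a ⟨x, hx⟩).trans (IsMap.toAut_apply he hei ⟨x, hx⟩)
  have hg₀V : img V g₀ = V :=
    (img_congr fun x hx => (hg₀x x (mem_sup_left hx)).trans (hex x hx)).trans hiV
  have hg₀C : ∀ c ∈ C, g₀ c ∈ C := fun c hc => by
    have h := hg₀.apply_mem_centralizerIn (le_sup_left.trans le_sup_left : V ≤ L ⊔ C)
      (mem_sup_right hc) hc.2
    rwa [hg₀V] at h
  have hg₀D : ∀ x ∈ L ⊔ C, g₀ x ∈ L ⊔ C := fun x hx => by
    refine hg₀.img_sup_le le_sup_left le_sup_right ?_ ?_ (hg₀.apply_mem_img hx)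
    · intro y hy
      obtain ⟨u, hu, rfl⟩ := (hg₀.mono le_sup_left).mem_img.1 hy
      exact mem_sup_left (hg₀x u hu ▸ heL u hu)
    · intro y hy
      obtain ⟨u, hu, rfl⟩ := (hg₀.mono le_sup_right).mem_img.1 hy
      exact mem_sup_right (hg₀C u hu)
  obtain ⟨i₁, n₁, hn₁, hg₁a, hgper⟩ :=
    exists_coprime_power hg₀ hg₀D le_sup_left hac hg₀a
  set g := g₀^[i₁] with hgdef
  have hgD : IsMap F (L ⊔ C) g := isMap_iterate hg₀ hg₀D i₁
  have hgDm : ∀ x ∈ L ⊔ C, g x ∈ L ⊔ C := fun x hx => iterate_mem hg₀D i₁ hx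
  have hgL : ∀ x ∈ L, g x = e x := fun x hx =>
    (hg₁a ⟨x, hx⟩).trans (IsMap.toAut_apply he hei ⟨x, hx⟩)
  have hgα : ∀ x ∈ V, g x = autFun α x := fun x hx =>
    (hgL x (mem_sup_left hx)).trans (hex x hx)
  have hgC : ∀ c ∈ C, g c ∈ C := fun c hc => iterate_mem hg₀C i₁ hc
  have hgCT : ∀ c ∈ C, c⁻¹ * g c ∈ centralizerIn T V :=
    iterate_trivial_mod (Z := centralizerIn T V) hg₀ le_sup_right
      (fun z hz => ⟨hTS hz.1, hz.2⟩)
      (fun c hc => ⟨hg₀T c hc, (C.mul_mem (C.inv_mem hc) (hg₀C c hc)).2⟩) i₁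
  have hDn : L ⊔ C ≤ normalizer (V : Set Ω) :=
    sup_le (sup_le V.le_normalizer (inf_le_right.trans
      (Subgroup.centralizer_le_normalizer (s := (V : Set Ω)))))
      (inf_le_right.trans (Subgroup.centralizer_le_normalizer (s := (V : Set Ω))))
  have hgmod : ∀ c ∈ C, c⁻¹ * g c ∈ V := fun c hc => by
    refine sub_mem_of_coprime hS hgD hgDm (le_sup_left.trans le_sup_left) hDn
      (fun v hv => hgα v hv ▸ hαV v hv) (mem_sup_right hc) ?_ hn₁ (hgper c (mem_sup_right hc))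
    have hw : c⁻¹ * g c ∈ L := mem_sup_right (hgCT c hc)
    rw [hgL _ hw]
    exact haV _ hw
  set W := V ⊔ C with hWdef
  have hWS : W ≤ S := sup_le hV.1 inf_le_left
  haveI := finite_of_le hWS
  have hWD : W ≤ L ⊔ C := sup_le (le_sup_left.trans le_sup_left) le_sup_right
  have hg : IsMap F W g := hgD.mono hWD
  have hVn : W ≤ normalizer (V : Set Ω) := hWD.trans hDn
  have hWmod : ∀ x ∈ W, x⁻¹ * g x ∈ V := fun x hx => by
    obtain ⟨v, hv, c, hc, rfl⟩ := CfsgLib.Comp.CProd.exists_split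
      (fun v hv c (hc : c ∈ C) => hc.2 v hv) hx
    rw [hg.map_mul (mem_sup_left hv) (mem_sup_right hc),
      show (v * c)⁻¹ * (g v * g c) = c⁻¹ * (v⁻¹ * g v) * c * (c⁻¹ * g c) by group]
    refine V.mul_mem ((Subgroup.mem_normalizer_iff''.1 (hVn (mem_sup_right hc)) _).1
      (V.mul_mem (V.inv_mem hv) ?_)) (hgmod c hc)
    rw [hgα v hv]; exact hαV v hv
  have hgW : ∀ x ∈ W, g x ∈ W := fun x hx => by
    simpa using W.mul_mem hx (mem_sup_left (hWmod x hx))
  have hgi := img_self hg hgW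
  set σ := hg.toAut hgi with hσdef
  have hσc : (orderOf σ).Coprime p :=
    coprime_toAut_of_periodic hg hgi hn₁ fun x hx => hgper x (hWD hx)
  -- extension to `P W`
  have hWcen : F.IsCentric W :=
    centric_sup_centralizerIn (fullyCentralized_of_fullyNormalized hS hF hV)
  have hPV : P ≤ normalizerIn S V := (le_normalizerIn hPS).trans (normalizerIn_le_inf hUc)
  have hPW : P ≤ normalizer (W : Set Ω) := fun n hn =>
    CfsgLib.Comp.le_normalizer_sup (M := normalizerIn S V) inf_le_right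
      (CfsgLib.Comp.le_normalizer_inf (inf_le_left.trans Subgroup.le_normalizer)
        (inf_le_right.trans (CfsgLib.Comp.normalizer_le_normalizer_centralizer V))) (hPV hn)
  have hkey2 : ∀ n ∈ P, ∃ c ∈ C, ∀ x ∈ W,
      g (n * x * n⁻¹) = autFun α n * c * g x * (autFun α n * c)⁻¹ := by
    intro n hn
    set m := autFun α n with hmdef
    have hm : m ∈ P := autFun_mem α hn
    set κn : MulAut W := W.normalizerMonoidHom ⟨n, hPW hn⟩ with hκn
    set κm : MulAut W := W.normalizerMonoidHom ⟨m, hPW hm⟩ with hκm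
    set γ := κm⁻¹ * σ * κn * σ⁻¹ with hγdef
    have hmi : ∀ y : W, ((κm⁻¹ y : W) : Ω) = m⁻¹ * y * m := fun y => by
      rw [hκm, ← map_inv]
      show m⁻¹ * (y : Ω) * m⁻¹⁻¹ = _
      rw [inv_inv]
    have hγσ : ∀ x : W, ((γ (σ x) : W) : Ω) = m⁻¹ * g (n * x * n⁻¹) * m := fun x => by
      rw [hγdef, MulAut.mul_apply, MulAut.inv_apply_self, MulAut.mul_apply, MulAut.mul_apply,
        hmi, hσdef, IsMap.toAut_apply]
      rfl
    have hγF : γ ∈ F.autGroup W := by
      refine mul_mem (mul_mem (mul_mem (inv_mem ?_) (hg.toAut_mem hgi)) ?_)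
        (inv_mem (hg.toAut_mem hgi))
      · exact autInducedBy_le_autGroup hWS (mem_autInducedBy_iff.2 ⟨m, hPS hm, fun x => rfl⟩)
      · exact autInducedBy_le_autGroup hWS (mem_autInducedBy_iff.2 ⟨n, hPS hn, fun x => rfl⟩)
    have hγ' : ∀ x ∈ W, autFun γ (g x) = m⁻¹ * g (n * x * n⁻¹) * m := fun x hx => by
      rw [autFun_apply γ (hgW x hx),
        show (⟨g x, hgW x hx⟩ : W) = σ ⟨x, hx⟩ from
          Subtype.ext (IsMap.toAut_apply hg hgi ⟨x, hx⟩).symm, hγσ]
    have hv₂ : n⁻¹ * m ∈ V := by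
      refine ⟨P.mul_mem (P.inv_mem hn) hm, ?_⟩
      rw [hmdef, autFun_apply α hn]
      exact hαU ⟨n, hn⟩
    have hfixV : ∀ v ∈ V, autFun γ v = v := fun v hv => by
      obtain ⟨x, hx, rfl⟩ := (hg.mono le_sup_left).mem_img.1
        (((img_congr hgα).trans hiV).ge hv)
      have hnx : n * x * n⁻¹ ∈ V := ((hPV hn).2 x).1 hx
      rw [hγ' x (mem_sup_left hx), hgα _ hnx, hgα x hx, hαm.map_conj hn hx.1, ← hmdef]
      group
    have hfixC : ∀ d ∈ C, d⁻¹ * autFun γ d ∈ V := fun d hd => by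
      obtain ⟨x, hx, rfl⟩ := hg.mem_img.1 (hgi.ge (mem_sup_right hd))
      rw [hγ' x hx]
      have hu : n * x * n⁻¹ ∈ W := (hPW hn x).1 hx
      set v₁ := (n * x * n⁻¹)⁻¹ * g (n * x * n⁻¹) with hv₁
      set v₂ := n⁻¹ * m with hv₂def
      rw [show (g x)⁻¹ * (m⁻¹ * g (n * x * n⁻¹) * m) =
        (x⁻¹ * g x)⁻¹ * (x⁻¹ * v₂⁻¹ * x) * (n⁻¹ * v₁ * n) * v₂ by rw [hv₁, hv₂def]; group]
      exact V.mul_mem (V.mul_mem (V.mul_mem (V.inv_mem (hWmod x hx))
        ((Subgroup.mem_normalizer_iff''.1 (hVn hx) _).1 (V.inv_mem hv₂)))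
        ((Subgroup.mem_normalizer_iff''.1 (hPV hn).2 _).1 (hWmod _ hu))) hv₂
    obtain ⟨c, hc, hcx⟩ := exists_conj_centralizer hS hF
      (fullyCentralized_of_fullyNormalized hS hF hV) (isMap_autFun hWS hγF) hfixV hfixC
    refine ⟨c, hc, fun x hx => ?_⟩
    have h1 := hcx _ (hgW x hx)
    rw [hγ' x hx] at h1
    calc g (n * x * n⁻¹) = m * (m⁻¹ * g (n * x * n⁻¹) * m) * m⁻¹ := by group
      _ = _ := by rw [h1]; group
  set D := P ⊔ W with hDdef
  obtain ⟨h₀, hh₀, hh₀x⟩ := receptive_extend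
    (receptive_of_fullyCentralized hS hF (centric_fullyCentralized hWcen)) hg hgi
    (le_sup_right : W ≤ D) (by
      have hle : D ≤ extender S W hg.toHom := sup_le (fun n hn => by
        obtain ⟨c, hc, hcx⟩ := hkey2 n hn
        exact (mem_extender_iff hg fun _ => rfl).2 ⟨hPS hn, hPW hn, _,
          S.mul_mem (hPS (autFun_mem α hn)) hc.1, hcx⟩)
        fun w hw => (mem_extender_iff hg fun _ => rfl).2
          ⟨hWS hw, W.le_normalizer hw, g w, hg.mem hw, fun x hx => hg.map_conj hw hx⟩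
      exact fun m hm => (mem_extender_iff hg fun _ => rfl).1 (hle hm))
  have hext : ∀ h : Ω → Ω, IsMap F D h → (∀ x ∈ W, h x = g x) →
      ∀ n ∈ P, n⁻¹ * h n ∈ W := by
    intro h hh hhx n hn
    obtain ⟨c, hc, hcx⟩ := hkey2 n hn
    set b := autFun α n * c with hb
    have hbS : b ∈ S := S.mul_mem (hPS (autFun_mem α hn)) hc.1
    have hhS : h n ∈ S := hh.mem (mem_sup_left hn)
    have hcw : b⁻¹ * h n ∈ W := hWcen.2 W (isConj_refl hWS) ⟨S.mul_mem (S.inv_mem hbS) hhS,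
      fun y hy => by
        obtain ⟨x, hx, rfl⟩ := hg.mem_img.1 (hgi.ge hy)
        have h1 := hh.map_conj (mem_sup_left hn) (mem_sup_right hx)
        rw [hhx _ ((hPW hn x).1 hx), hhx x hx, hcx x hx] at h1
        calc g x * (b⁻¹ * h n) = b⁻¹ * (b * g x * b⁻¹) * h n := by group
          _ = b⁻¹ * (h n * g x * (h n)⁻¹) * h n := by rw [h1]
          _ = b⁻¹ * h n * g x := by group⟩
    rw [show n⁻¹ * h n = (n⁻¹ * autFun α n) * c * (b⁻¹ * h n) by rw [hb]; group]
    refine W.mul_mem (W.mul_mem (mem_sup_left ⟨P.mul_mem (P.inv_mem hn) (autFun_mem α hn), ?_⟩)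
      (mem_sup_right hc)) hcw
    rw [autFun_apply α hn]
    exact hαU ⟨n, hn⟩
  have hh₀D : ∀ x ∈ D, h₀ x ∈ D := fun x hx => by
    refine hh₀.img_sup_le le_sup_left le_sup_right ?_ ?_ (hh₀.apply_mem_img hx)
    · intro y hy
      obtain ⟨n, hn, rfl⟩ := (hh₀.mono le_sup_left).mem_img.1 hy
      simpa using D.mul_mem (mem_sup_left hn) (mem_sup_right (hext h₀ hh₀ hh₀x n hn))
    · intro y hy
      obtain ⟨w, hw, rfl⟩ := (hh₀.mono le_sup_right).mem_img.1 hy
      exact mem_sup_right (hh₀x w hw ▸ hgW w hw)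
  obtain ⟨i₂, n₂, hn₂, hhσ, hhper⟩ := exists_coprime_power hh₀ hh₀D le_sup_right hσc
    fun x => (hh₀x x x.2).trans (IsMap.toAut_apply hg hgi x).symm
  set h := h₀^[i₂] with hhdef
  have hh : IsMap F D h := isMap_iterate hh₀ hh₀D i₂
  have hhD : ∀ x ∈ D, h x ∈ D := fun x hx => iterate_mem hh₀D i₂ hx
  have hhx : ∀ x ∈ W, h x = g x := fun x hx =>
    (hhσ ⟨x, hx⟩).trans (IsMap.toAut_apply hg hgi ⟨x, hx⟩)
  have hDn' : D ≤ normalizer (V : Set Ω) := sup_le (hPV.trans inf_le_right) hVn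
  have hPmod : ∀ n ∈ P, n⁻¹ * h n ∈ V := fun n hn => by
    refine sub_mem_of_coprime hS hh hhD (le_sup_left.trans le_sup_right) hDn'
      (fun v hv => ?_) (mem_sup_left hn) ?_ hn₂ (hhper n (mem_sup_left hn))
    · rw [hhx v (mem_sup_left hv), hgα v hv]; exact hαV v hv
    · rw [hhx _ (hext h hh hhx n hn)]
      exact hWmod _ (hext h hh hhx n hn)
  have hhP : ∀ n ∈ P, h n ∈ P := fun n hn => by
    simpa using P.mul_mem hn (hPmod n hn).1
  have hhm : IsMap F P h := hh.mono le_sup_left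
  have hhi := img_self hhm hhP
  set π := hhm.toAut hhi with hπdef
  have hπF : π ∈ F.autGroup P := hhm.toAut_mem hhi
  have hπc : (orderOf π).Coprime p :=
    coprime_toAut_of_periodic hhm hhi hn₂ fun x hx => hhper x (mem_sup_left hx)
  have hπx : ∀ x : P, ((π x : P) : Ω) = h x := fun x => IsMap.toAut_apply hhm hhi x
  -- the stabilizer of `1 ≤ V ≤ P`
  have hMS : chainAut F U P ≤ autInducedBy S P := fun k hk => by
    obtain ⟨b, hb, hbk⟩ := exists_conj_le_autInducedBy (fullyAutomized_of_fullyNormalized hS hF hP)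
      (chainAut F U P) (isPGroup_chainAut hS hUc.1) fun _ h => (mem_chainAut.1 h).1
    have h1 := hbk _ (chainAut_normal hUc hPS (inv_mem hb) hk)
    rwa [inv_inv, ← mul_assoc, ← mul_assoc, mul_inv_cancel, one_mul, mul_assoc, mul_inv_cancel,
      mul_one] at h1
  have hdiff : ∀ β ∈ F.autGroup P, (∀ x : P, (x : Ω)⁻¹ * ((β x : P) : Ω) ∈ U) →
      (∀ x : P, (x : Ω) ∈ U → β x = α x) → π⁻¹ * β ∈ chainAut F U P := by
    intro β hβ hβU hβV
    refine mem_chainAut.2 ⟨mul_mem (inv_mem hπF) hβ, fun x hx => ?_, fun x => ?_⟩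
    · have e1 : π x = β x := Subtype.ext (by
        rw [hπx, hhx x (mem_sup_left ⟨x.2, hx⟩), hgα x ⟨x.2, hx⟩, autFun_apply α x.2, hβV x hx])
      rw [MulAut.mul_apply, ← e1, MulAut.inv_apply_self]
    · obtain ⟨y, hy⟩ := π.surjective (β x)
      rw [MulAut.mul_apply, ← hy, MulAut.inv_apply_self]
      have h1 : (y : Ω)⁻¹ * h y ∈ U := (hPmod y y.2).2
      have h2 := hβU x
      rw [← hy, hπx] at h2
      rw [show (x : Ω)⁻¹ * y = ((x : Ω)⁻¹ * h y) * ((y : Ω)⁻¹ * h y)⁻¹ by group]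
      exact U.mul_mem h2 (U.inv_mem h1)
  -- the conjugations by the centre of `V`
  set Z := V ⊓ centralizer (V : Set Ω) with hZdef
  set A := F.autGroup P with hAdef
  set I := (autInducedBy Z P).subgroupOf A with hIdef
  haveI hIn : I.Normal := ⟨fun d hd b => by
    obtain ⟨z, hz, hdz⟩ := mem_autInducedBy_iff.1 hd
    have hbm : IsMap F P (autFun (b : MulAut P)) := isMap_autFun hPS b.2
    refine mem_autInducedBy_iff.2 ⟨autFun (b : MulAut P) z,
      ⟨⟨autFun_mem _ hz.1.1, StronglyClosed.apply_mem hUc hbm hz.1.1 hz.1.2⟩, ?_⟩, fun y => ?_⟩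
    · intro q hq
      have hbi : img V (autFun (b : MulAut P)) = V := img_self (hbm.mono inf_le_left)
        fun u hu => ⟨autFun_mem _ hu.1, StronglyClosed.apply_mem hUc hbm hu.1 hu.2⟩
      obtain ⟨v, hv, rfl⟩ := (hbm.mono inf_le_left).mem_img.1 (hbi.ge hq)
      rw [← hbm.map_mul hv.1 hz.1.1, ← hbm.map_mul hz.1.1 hv.1]
      exact congrArg _ (hz.2 v hv)
    · obtain ⟨x, rfl⟩ := (b : MulAut P).surjective y
      rw [Subgroup.coe_subtype, Subgroup.coe_mul, Subgroup.coe_mul, Subgroup.coe_inv,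
        MulAut.mul_apply, MulAut.mul_apply, MulAut.inv_apply_self]
      have e1 := hdz x
      rw [Subgroup.coe_subtype] at e1
      rw [← autFun_apply _ (Subtype.mem _), e1, hbm.map_conj hz.1.1 x.2, autFun_apply _ x.2]⟩
  set q := QuotientGroup.mk' I with hqdef
  have hcomm : ∀ k : A, (k : MulAut P) ∈ chainAut F U P → Commute (q ⟨π, hπF⟩) (q k) := by
    intro k hk
    obtain ⟨c, hcS, hcx⟩ := mem_autInducedBy_iff.1 (hMS hk)
    have hcC : c ∈ C := ⟨hcS, fun v hv => by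
      have h1 := hcx ⟨v, hv.1⟩
      rw [(mem_chainAut.1 hk).2.1 ⟨v, hv.1⟩ hv.2] at h1
      exact (mul_inv_eq_iff_eq_mul.1 h1.symm).symm⟩
    set z := c⁻¹ * g c with hzdef
    have hzZ : z ∈ Z := ⟨hgmod c hcC, (C.mul_mem (C.inv_mem hcC) (hgC c hcC)).2⟩
    have hcn : c ∈ normalizer (P : Set Ω) := mem_normalizer_of_aut hcx
    set ζ : MulAut P := P.normalizerMonoidHom ⟨z, P.le_normalizer hzZ.1.1⟩ with hζ
    have hζA : ζ ∈ A := autInducedBy_le_autGroup hPS
      (mem_autInducedBy_iff.2 ⟨z, hPS hzZ.1.1, fun x => rfl⟩)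
    have heqn : (⟨π, hπF⟩ : A) * k = k * ⟨ζ, hζA⟩ * ⟨π, hπF⟩ := by
      refine Subtype.ext (MulEquiv.ext fun x => Subtype.ext ?_)
      simp only [Subgroup.coe_mul, MulAut.mul_apply]
      rw [hcx (ζ (π x)), hπx, hcx x]
      show h (c * x * c⁻¹) = c * (z * ((π x : P) : Ω) * z⁻¹) * c⁻¹
      have hcW : c ∈ W := mem_sup_right hcC
      rw [hh.map_conj (mem_sup_right hcW) (mem_sup_left x.2), hhx c hcW, hπx, hzdef]
      group
    have hζ1 : q ⟨ζ, hζA⟩ = 1 := (QuotientGroup.eq_one_iff _).2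
      (Subgroup.mem_subgroupOf.2 (mem_autInducedBy_iff.2 ⟨z, hzZ, fun x => rfl⟩))
    have h2 := congrArg q heqn
    rw [map_mul, map_mul, map_mul, hζ1, mul_one] at h2
    exact h2
  have hcong : ∀ (β : MulAut P) (hβ : β ∈ A), (orderOf β).Coprime p →
      (∀ x : P, (x : Ω)⁻¹ * ((β x : P) : Ω) ∈ U) → (∀ x : P, (x : Ω) ∈ U → β x = α x) →
      q ⟨β, hβ⟩ = q ⟨π, hπF⟩ := by
    intro β hβ hβc hβU hβV
    set k : A := ⟨π, hπF⟩⁻¹ * ⟨β, hβ⟩ with hkdef
    have hkM : (k : MulAut P) ∈ chainAut F U P := hdiff β hβ hβU hβV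
    have hβe : (⟨β, hβ⟩ : A) = ⟨π, hπF⟩ * k := by rw [hkdef, mul_inv_cancel_left]
    obtain ⟨s, hs⟩ := isPGroup_chainAut hS hUc.1 ⟨(k : MulAut P), hkM⟩
    have hks : k ^ p ^ s = 1 := Subtype.ext (by
      have := congrArg Subtype.val hs
      simpa using this)
    set N := orderOf β * orderOf π with hN
    have hNc : N.Coprime p := Nat.Coprime.mul_left hβc hπc
    have h1 : q k ^ N = 1 := by
      have hb : (⟨β, hβ⟩ : A) ^ N = 1 := Subtype.ext (by
        push_cast
        rw [hN, pow_mul, pow_orderOf_eq_one, one_pow])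
      have hp' : (⟨π, hπF⟩ : A) ^ N = 1 := Subtype.ext (by
        push_cast
        rw [hN, mul_comm, pow_mul, pow_orderOf_eq_one, one_pow])
      have h2 := congrArg q hb
      rwa [hβe, map_pow, map_mul, (hcomm k hkM).mul_pow, ← map_pow, hp', map_one, one_mul]
        at h2
    have h2 : q k = 1 := orderOf_eq_one_iff.1 (Nat.eq_one_of_dvd_coprimes (hNc.pow_right s)
      (orderOf_dvd_of_pow_eq_one h1)
      (orderOf_dvd_of_pow_eq_one (by rw [← map_pow, hks, map_one])))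
    rw [hβe, map_mul, h2, mul_one]
  have h1 : (⟨δ, hδ⟩ : A)⁻¹ * ⟨α, hα⟩ ∈ I := by
    rw [← QuotientGroup.eq_one_iff]
    show q ((⟨δ, hδ⟩ : A)⁻¹ * ⟨α, hα⟩) = 1
    rw [map_mul, map_inv, hcong δ hδ hδc hδU fun x hx => (heq x hx).symm,
      hcong α hα hαc hαU fun _ _ => rfl, inv_mul_cancel]
  obtain ⟨z, hz, hzx⟩ := mem_autInducedBy_iff.1 (Subgroup.mem_subgroupOf.1 h1)
  refine ⟨z, hz.1, hz.2, fun x => ?_⟩
  have hzP : z * (x : Ω) * z⁻¹ ∈ P := P.mul_mem (P.mul_mem hz.1.1 x.2) (P.inv_mem hz.1.1)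
  rw [autFun_apply δ hzP]
  have e1 : (δ⁻¹ * α) x = (⟨z * (x : Ω) * z⁻¹, hzP⟩ : P) := Subtype.ext (hzx x)
  rw [← e1, MulAut.mul_apply, MulAut.apply_inv_self]

end CfsgLib.Fusion.PRE
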