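import Cfsg.Agent.Lib.Fusion.ProductRE.Ambient
import Cfsg.Agent.Lib.Fusion.ProductRE.Key

/-!
Lifts of maps to the model of the normalizer system of `T Y`, normalized on `Y`, and the subsystem
they generate.
-/

set_option autoImplicit false
set_option linter.unusedVariables false
set_option linter.unusedSectionVars false
set_option linter.style.haveILetI false

universe u

namespace CfsgLib.Fusion.PRE

open Cfsg Cfsg.FusionSystem Subgroup CfsgLib.Fusion CfsgLib.Comp.Fus CfsgLib.Comp.EBal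

variable {Ω : Type u} [Group Ω] {S T T' Y : Subgroup Ω} {F : FusionSystem S}
  {E : FusionSystem T} {E' : FusionSystem T'} {p : ℕ} {P Q : Subgroup Ω} {f g : Ω → Ω}

open Classical in
/-- An element of `S` in the model. -/
noncomputable def emb (D : TopData F E' p) (x : Ω) : D.M.G :=
  if h : x ∈ normalizerIn S T' then D.M.ι ⟨x, h⟩ else 1

theorem emb_of_mem (D : TopData F E' p) {x : Ω} (h : x ∈ normalizerIn S T') :
    emb D x = D.M.ι ⟨x, h⟩ := by simp [emb, h]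

/-- The subgroups on which the lifts are used. -/
def Star (E : FusionSystem T) (Y S P : Subgroup Ω) : Prop :=
  P ≤ S ∧ Y ≤ P ∧ E.IsCentric (P ⊓ T)

/-- `m` lifts `f`, exactly on `Y`. -/
def Lift (E : FusionSystem T) (Y : Subgroup Ω) (D : TopData F E' p) (P : Subgroup Ω) (f : Ω → Ω)
    (m : D.M.G) : Prop :=
  Star E Y S P ∧ D.Th P f (QuotientGroup.mk m) ∧
    ∀ y ∈ Y, emb D (f y) = m * emb D y * m⁻¹

/-- The elements of the side subgroup centralizing `Y`. -/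
def H₀ (Y : Subgroup Ω) (D : TopData F E' p) : Subgroup D.M.G :=
  D.H ⊓ centralizer (D.M.isub Y : Set D.M.G)

/-- The product of `S` with the elements of the side subgroup centralizing `Y`. -/
def L₀ (Y : Subgroup Ω) (D : TopData F E' p) : Subgroup D.M.G :=
  D.M.ι.range ⊔ H₀ Y D

variable [Fact p.Prime] [Finite S] (hd : Data F E E' Y p) {D : TopData F E' p}
  {m m' k h : D.M.G}

include hd

theorem inN {x : Ω} (hx : x ∈ S) : x ∈ normalizerIn S T' := TopData.mem_N hd.ctx hx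

theorem emb_mul {x y : Ω} (hx : x ∈ S) (hy : y ∈ S) : emb D (x * y) = emb D x * emb D y := by
  rw [emb_of_mem D (inN hd (S.mul_mem hx hy)), emb_of_mem D (inN hd hx), emb_of_mem D (inN hd hy),
    ← map_mul]
  rfl

theorem emb_one : emb D (1 : Ω) = 1 := by
  rw [emb_of_mem D (inN hd S.one_mem), show (⟨1, inN hd S.one_mem⟩ : normalizerIn S T') = 1 from rfl,
    map_one]

theorem emb_inv {x : Ω} (hx : x ∈ S) : emb D x⁻¹ = (emb D x)⁻¹ := by
  rw [eq_inv_iff_mul_eq_one, ← emb_mul hd (S.inv_mem hx) hx, inv_mul_cancel, emb_one hd]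

theorem emb_conj {x y : Ω} (hx : x ∈ S) (hy : y ∈ S) :
    emb D (x * y * x⁻¹) = emb D x * emb D y * (emb D x)⁻¹ := by
  rw [emb_mul hd (S.mul_mem hx hy) (S.inv_mem hx), emb_mul hd hx hy, emb_inv hd hx]

theorem emb_inj {x y : Ω} (hx : x ∈ S) (hy : y ∈ S) (e : emb D x = emb D y) : x = y := by
  rw [emb_of_mem D (inN hd hx), emb_of_mem D (inN hd hy)] at e
  exact congrArg Subtype.val (D.M.inj e)

theorem emb_mem_range {x : Ω} (hx : x ∈ S) : emb D x ∈ D.M.ι.range :=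
  ⟨_, (emb_of_mem D (inN hd hx)).symm⟩

theorem exists_of_mem_range (hm : m ∈ D.M.ι.range) : ∃ x ∈ S, emb D x = m := by
  obtain ⟨⟨x, hx⟩, rfl⟩ := hm
  exact ⟨x, hx.1, emb_of_mem D hx⟩

theorem emb_mem_isub {x : Ω} (hx : x ∈ S) {X : Subgroup Ω} :
    emb D x ∈ D.M.isub X ↔ x ∈ X := by
  rw [emb_of_mem D (inN hd hx)]
  exact D.M.mem_isub _

theorem exists_of_mem_isub' {X : Subgroup Ω} (hm : m ∈ D.M.isub X) :
    ∃ x ∈ X, x ∈ S ∧ emb D x = m := by
  obtain ⟨x, hx, hxX, rfl⟩ := D.M.exists_of_mem_isub hm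
  exact ⟨x, hxX, hx.1, emb_of_mem D hx⟩

theorem bar_eq_mk {x : Ω} (hx : x ∈ S) : D.bar x = QuotientGroup.mk (emb D x) := by
  rw [D.bar_eq (inN hd hx), emb_of_mem D (inN hd hx)]

theorem emb_mem_H {x : Ω} (hx : x ∈ S) : emb D x ∈ D.H ↔ x ∈ T' := by
  rw [emb_of_mem D (inN hd hx)]
  exact D.mem_iff x _

/-- The elements of the model induce automorphisms of `T'` carrying `Y` to itself. -/
theorem conj_emb_Y (m : D.M.G) {y : Ω} (hy : y ∈ Y) :
    ∃ y' ∈ Y, emb D y' = m * emb D y * m⁻¹ := by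
  obtain ⟨a, ha, hax, -⟩ := TopData.exists_conjT hd.ctx (D := D) m
  refine ⟨a y, StronglyClosed.apply_mem hd.closed ha (hd.Y_le hy) hy, ?_⟩
  rw [emb_of_mem D (hax.mem (hd.Y_le hy)), emb_of_mem D (hax.le (hd.Y_le hy))]
  exact hax.eq (hd.Y_le hy)

theorem mem_H₀ : h ∈ H₀ Y D ↔ h ∈ D.H ∧ ∀ y ∈ Y, h * emb D y * h⁻¹ = emb D y := by
  constructor
  · rintro ⟨h1, h2⟩
    refine ⟨h1, fun y hy => ?_⟩
    rw [← h2 _ ((emb_mem_isub hd (hd.leY hy)).2 hy), mul_inv_cancel_right]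
  · rintro ⟨h1, h2⟩
    refine ⟨h1, fun z hz => ?_⟩
    obtain ⟨y, hy, -, rfl⟩ := exists_of_mem_isub' hd hz
    exact (mul_inv_eq_iff_eq_mul.1 (h2 y hy)).symm

theorem H₀_normal : (H₀ Y D).Normal := ⟨fun h hh m => (mem_H₀ hd).2
  ⟨D.norm.conj_mem h ((mem_H₀ hd).1 hh).1 m, fun y hy => by
    obtain ⟨y', hy', e⟩ := conj_emb_Y hd m⁻¹ hy
    have h1 := ((mem_H₀ hd).1 hh).2 y' hy'
    rw [e, inv_inv] at h1
    calc m * h * m⁻¹ * emb D y * (m * h * m⁻¹)⁻¹
        = m * (h * (m⁻¹ * emb D y * m) * h⁻¹) * m⁻¹ := by group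
      _ = m * (m⁻¹ * emb D y * m) * m⁻¹ := by rw [h1]
      _ = emb D y := by group⟩⟩

theorem star_inC (hP : Star E Y S P) : InC F T' P := by
  refine ⟨hP.1, fun P' hP' x hx => ?_⟩
  obtain ⟨f, hf, rfl⟩ := isConj_iff.1 hP'
  have hY : Y ≤ img P f := fun y hy => by
    haveI := finite_of_le hd.leY
    exact img_mono hP.2.1 ((StronglyClosed.img_eq hd.closed hf hP.2.1).ge hy)
  have hc := centric_img_of_map hd.pS hd.norm.1 (hf.mono inf_le_left) hP.2.2
  rw [img_inf hd.closedT hf] at hc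
  obtain ⟨t, ht, y, hy, rfl⟩ := hd.split hx.1
  refine mul_mem ((hc.2 _ (isConj_refl hc.1) ⟨ht, fun u hu => ?_⟩).1) (hY hy)
  have h1 : u * (t * y) = t * y * u := hx.2 u hu.1
  rw [← mul_assoc, mul_assoc t y u, ← hd.commute hu.2 hy, ← mul_assoc t u y] at h1
  exact mul_right_cancel h1

theorem star_img (hP : Star E Y S P) (hf : IsMap F P f) : Star E Y S (img P f) := by
  haveI := finite_of_le hd.leY
  refine ⟨hf.img_le, ?_, ?_⟩
  · exact (StronglyClosed.img_eq hd.closed hf hP.2.1).ge.trans (img_mono hP.2.1)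
  · rw [← img_inf hd.closedT hf]
    exact centric_img_of_map hd.pS hd.norm.1 (hf.mono inf_le_left) hP.2.2

theorem star_mono (hP : Star E Y S P) (hPQ : P ≤ Q) (hQ : Q ≤ S) : Star E Y S Q :=
  ⟨hQ, hP.2.1.trans hPQ, centric_of_le hP.2.2 (inf_le_inf_right T hPQ) inf_le_right⟩

theorem star_of_img (hf : IsMap F P f) (h : Star E Y S (img P f)) : Star E Y S P := by
  obtain ⟨k, hk, -, -, hki⟩ := hf.exists_inv
  rw [← hki]
  exact star_img hd h hk

theorem Lift.isMap (hl : Lift E Y D P f m) : IsMap F P f := TopData.Th.isMap hd.ctx hl.2.1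

theorem Lift.apply_Y (hl : Lift E Y D P f m) {y : Ω} (hy : y ∈ Y) : f y ∈ Y :=
  StronglyClosed.apply_mem hd.closed (hl.isMap hd) (hl.1.2.1 hy) hy

theorem Lift.mono (hl : Lift E Y D P f m) (hQ : Star E Y S Q) (hQP : Q ≤ P) :
    Lift E Y D Q f m :=
  ⟨hQ, TopData.Th.mono hd.ctx hl.2.1 hQP, hl.2.2⟩

theorem Lift.congr (hl : Lift E Y D P f m) (hfg : ∀ x ∈ P, f x = g x) : Lift E Y D P g m :=
  ⟨hl.1, TopData.Th.congr hd.ctx hl.2.1 hfg, fun y hy => by
    rw [← hfg y (hl.1.2.1 hy)]; exact hl.2.2 y hy⟩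

theorem Lift.comp (hl : Lift E Y D P f m) (hl' : Lift E Y D Q g m')
    (hmem : ∀ x ∈ P, f x ∈ Q) : Lift E Y D P (fun x => g (f x)) (m' * m) := by
  refine ⟨hl.1, ?_, fun y hy => ?_⟩
  · rw [QuotientGroup.mk_mul]
    exact TopData.Th.trans hd.ctx hl.2.1 hl'.2.1 hmem
  · rw [hl'.2.2 _ (hl.apply_Y hd hy), hl.2.2 y hy]
    group

theorem Lift.inv (hl : Lift E Y D P f m) {j : Ω → Ω} (hj : ∀ x ∈ P, j (f x) = x) :
    Lift E Y D (img P f) j m⁻¹ := by
  have hf := hl.isMap hd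
  obtain ⟨j', hj', hj'x⟩ := TopData.Th.exists_inv hd.ctx hl.2.1
  have hYi : ∀ y ∈ Y, ∃ x ∈ Y, f x = y := fun y hy => by
    haveI := finite_of_le hd.leY
    exact (hf.mono hl.1.2.1).mem_img.1 ((StronglyClosed.img_eq hd.closed hf hl.1.2.1).ge hy)
  refine ⟨star_img hd hl.1 hf, ?_, fun y hy => ?_⟩
  · rw [QuotientGroup.mk_inv]
    refine TopData.Th.congr hd.ctx hj' fun z hz => ?_
    obtain ⟨x, hx, rfl⟩ := hf.mem_img.1 hz
    rw [hj'x x hx, hj x hx]
  · obtain ⟨x, hx, rfl⟩ := hYi y hy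
    rw [hj x (hl.1.2.1 hx), hl.2.2 x hx]
    group

theorem Lift.mul_H₀ (hl : Lift E Y D P f m) (hh : h ∈ H₀ Y D) : Lift E Y D P f (h * m) := by
  refine ⟨hl.1, ?_, fun y hy => ?_⟩
  · rw [QuotientGroup.mk_mul, (QuotientGroup.eq_one_iff h).2 hh.1, one_mul]
    exact hl.2.1
  · rw [show h * m * emb D y * (h * m)⁻¹ = h * (m * emb D y * m⁻¹) * h⁻¹ by group, ← hl.2.2 y hy,
      ((mem_H₀ hd).1 hh).2 _ (hl.apply_Y hd hy)]

theorem lift_conj_self (hP : Star E Y S P) {s : Ω} (hs : s ∈ S) :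
    Lift E Y D P (fun x => s * x * s⁻¹) (emb D s) :=
  ⟨hP, bar_eq_mk hd hs ▸ TopData.th_conj hd.ctx hP.1 hs,
    fun y hy => emb_conj hd hs (hd.leY hy)⟩

theorem lift_of_real (hP : Star E Y S P) (hm : D.M.Real P f m) : Lift E Y D P f m :=
  ⟨hP, TopData.Th.top m hm, fun y hy => by
    have hy' := hP.2.1 hy
    rw [emb_of_mem D (hm.mem hy'), emb_of_mem D (hm.le hy')]
    exact hm.eq hy'⟩

theorem lift_id (hP : Star E Y S P) : Lift E Y D P id 1 :=
  lift_of_real hd hP (WModel.real_one (hP.1.trans (TopData.nT hd.ctx).ge))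

/-- A lift conjugates the elements of the source to those of the image, modulo `H₀`. -/
theorem Lift.apply (hl : Lift E Y D P f m) {x : Ω} (hx : x ∈ P) :
    (m * emb D x * m⁻¹)⁻¹ * emb D (f x) ∈ H₀ Y D := by
  have hf := hl.isMap hd
  have hxS := hf.le hx
  have hfx := hf.mem hx
  refine (mem_H₀ hd).2 ⟨?_, fun y hy => ?_⟩
  · have e := TopData.Th.bar_apply hd.ctx hl.2.1 x hx
    rw [bar_eq_mk hd hfx, bar_eq_mk hd hxS, ← QuotientGroup.mk_mul, ← QuotientGroup.mk_inv,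
      ← QuotientGroup.mk_mul] at e
    exact QuotientGroup.eq.1 e.symm
  · haveI := finite_of_le hd.leY
    obtain ⟨u, hu, e⟩ := (hf.mono hl.1.2.1).mem_img.1
      ((StronglyClosed.img_eq hd.closed hf hl.1.2.1).ge hy)
    subst e
    have hxu : x * u * x⁻¹ ∈ Y := StronglyClosed.conj_mem hd.closed hxS hu
    have h1 := hl.2.2 _ hxu
    rw [hf.map_conj hx (hl.1.2.1 hu), emb_conj hd hfx (hf.mem (hl.1.2.1 hu)),
      emb_conj hd hxS (hd.leY hu), hl.2.2 u hu] at h1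
    set A := m * emb D x * m⁻¹ with hA
    set B := emb D (f x)
    set C := m * emb D u * m⁻¹ with hC
    rw [hl.2.2 u hu, ← hC]
    calc A⁻¹ * B * C * (A⁻¹ * B)⁻¹ = A⁻¹ * (B * C * B⁻¹) * A := by group
      _ = A⁻¹ * (m * (emb D x * emb D u * (emb D x)⁻¹) * m⁻¹) * A := by rw [h1]
      _ = C := by rw [hA, hC]; group

/-- A lift of the identity of a fully centralized subgroup comes from its centralizer. -/
theorem Lift.exists_centralizer (hl : Lift E Y D P id m) (hP : F.IsFullyCentralized P) :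
    ∃ c ∈ centralizerIn S P, (emb D c)⁻¹ * m ∈ H₀ Y D := by
  obtain ⟨c, hc, hcm⟩ := (TopData.good hd.ctx P (star_inC hd hl.1)).2 hP _ hl.2.1
  refine ⟨c, hc, (mem_H₀ hd).2 ⟨?_, fun y hy => ?_⟩⟩
  · rw [bar_eq_mk hd hc.1] at hcm
    exact QuotientGroup.eq.1 hcm
  · have h1 : emb D y = m * emb D y * m⁻¹ := hl.2.2 y hy
    have h2 := emb_conj (D := D) hd hc.1 (hd.leY hy)
    rw [show c * y * c⁻¹ = y by rw [← hc.2 y (hl.1.2.1 hy), mul_inv_cancel_right]] at h2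
    calc (emb D c)⁻¹ * m * emb D y * ((emb D c)⁻¹ * m)⁻¹
        = (emb D c)⁻¹ * (m * emb D y * m⁻¹) * emb D c := by group
      _ = (emb D c)⁻¹ * emb D y * emb D c := by rw [← h1]
      _ = (emb D c)⁻¹ * (emb D c * emb D y * (emb D c)⁻¹) * emb D c := by rw [← h2]
      _ = emb D y := by group

/-- Two lifts of one map differ by a lift of the identity of the image. -/
theorem Lift.diff (hl : Lift E Y D P f m) (hl' : Lift E Y D P f m') :
    Lift E Y D (img P f) id (m' * m⁻¹) := by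
  obtain ⟨j, -, hjx, hjy, -⟩ := (hl.isMap hd).exists_inv
  exact ((hl.inv hd hjx).comp hd hl' fun y hy => (hjy y hy).1).congr hd fun y hy => (hjy y hy).2

/-- Every element of the model fixing the classes on `T'` of a map of the side subgroup lies in it
after a change by one of them. -/
theorem exists_side_real {a : Ω → Ω} (ha : IsMap E' T' a) :
    ∃ η ∈ D.H, ∀ x ∈ T', emb D (a x) = η * emb D x * η⁻¹ := by
  obtain ⟨hEs, -, hinv⟩ := hd.ctx.normal.1
  have hT'S : T' ≤ S := hd.ctx.le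
  haveI := finite_of_le hT'S
  have hT'p := hd.pS.to_le hT'S
  let K : Subgroup (E'.autGroup T') :=
    { carrier := {α | ∃ η ∈ D.H, ∀ x : T',
        emb D (((α : MulAut T') x : T') : Ω) = η * emb D x * η⁻¹}
      one_mem' := ⟨1, one_mem _, fun x => by simp⟩
      mul_mem' := by
        rintro α β ⟨η, hη, hα⟩ ⟨θ, hθ, hβ⟩
        refine ⟨η * θ, mul_mem hη hθ, fun x => ?_⟩
        rw [Subgroup.coe_mul, MulAut.mul_apply, hα, hβ]
        group
      inv_mem' := by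
        rintro α ⟨η, hη, hα⟩
        refine ⟨η⁻¹, inv_mem hη, fun x => ?_⟩
        have h1 := hα ((α : MulAut T')⁻¹ x)
        rw [MulAut.apply_inv_self] at h1
        rw [Subgroup.coe_inv, h1]
        group }
  obtain ⟨W, hW⟩ := (fullyAutomized_of_fullyNormalized hT'p hEs (fullyNormalized_top E')).2
  have hK : K = ⊤ := by
    refine eq_top_of_sylow_le W (fun w hw => ?_) fun w hw => ?_
    · rw [hW] at hw
      obtain ⟨t, ht, htx⟩ := mem_autInducedBy_iff.1 hw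
      refine ⟨emb D t, (emb_mem_H hd (hT'S ht)).2 ht, fun x => ?_⟩
      rw [← emb_conj hd (hT'S ht) (hT'S x.2), ← htx x]
      rfl
    · have hwm := isMap_autFun le_rfl w.2
      have hwF : IsMap F T' (autFun (w : MulAut T')) := isSubsystemOf_iff.1 hinv.1 _ _ hwm
      have hst : ∀ x ∈ T', autFun (w : MulAut T') x ∈ T' := fun x hx => autFun_mem _ hx
      obtain ⟨n₀, hn₀⟩ := WModel.exists_real (M := D.M) (hT'S.trans (TopData.nT hd.ctx).ge) le_rfl
        hwF (fun x hx => inN hd (hwF.mem hx)) (img_self hwF hst)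
      obtain ⟨j, hj, hnj⟩ := hn₀.exists_coprime hst (n := orderOf (w : MulAut T'))
        (by rwa [Subgroup.orderOf_coe]) fun x hx => by
          rw [autFun_pow _ _ ⟨x, hx⟩, pow_orderOf_eq_one]
          rfl
      refine ⟨n₀ ^ j, D.hcop _ hj _ hwm fun x hx => ⟨hnj.mem hx, hnj.eq hx⟩, fun x => ?_⟩
      rw [← autFun_apply _ x.2, emb_of_mem D (hnj.mem x.2), emb_of_mem D (hnj.le x.2)]
      exact hnj.eq x.2
  have hai : img T' a = T' := img_self ha fun x hx => ha.mem hx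
  obtain ⟨η, hη, hηx⟩ := hK.ge (Subgroup.mem_top ⟨ha.toAut hai, ha.toAut_mem hai⟩)
  refine ⟨η, hη, fun x hx => ?_⟩
  have h1 := hηx ⟨x, hx⟩
  rwa [IsMap.toAut_apply] at h1

/-- Every map on a subgroup of the family has a lift. -/
theorem exists_lift_map (hP : Star E Y S P) (hf : IsMap F P f) : ∃ m, Lift E Y D P f m := by
  obtain ⟨γ, hγ⟩ := (TopData.good (D := D) hd.ctx P (star_inC hd hP)).1 f hf
  obtain ⟨m₀, rfl⟩ := QuotientGroup.mk_surjective γ
  obtain ⟨e, he, hex⟩ := TopData.Th.inv_E hd.ctx hγ m₀ rfl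
  obtain ⟨hEs, -, hinv⟩ := hd.ctx.normal.1
  have hT'S : T' ≤ S := hd.ctx.le
  haveI := finite_of_le hT'S
  haveI := finite_of_le hd.leY
  have hYsub : Y ≤ P ⊓ T' := le_inf hP.2.1 hd.Y_le
  have heY := he.mono hYsub
  have hYc := stronglyClosed_of_sub hinv.1 hd.closed hd.Y_le
  have heYi : img Y e = Y := StronglyClosed.img_eq hYc heY le_rfl
  obtain ⟨a, ha, hax⟩ := receptive_extend
    (receptive_of_fullyNormalized (hd.pS.to_le hT'S) hEs
      (CfsgLib.Comp.SQ.fullyNormalized_of_closed hYc))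
    heY heYi hd.Y_le fun x hx => by
      obtain ⟨t, ht, y, hy, rfl⟩ := hd.split hx
      refine ⟨hx, StronglyClosed.le_normalizer hYc hx, e y, heY.mem hy, fun u hu => ?_⟩
      have h1 : t * y * u * (t * y)⁻¹ = y * u * y⁻¹ := by
        rw [show t * y * u * (t * y)⁻¹ = t * (y * u * y⁻¹) * t⁻¹ by group,
          hd.commute ht (Y.mul_mem (Y.mul_mem hy hu) (Y.inv_mem hy)), mul_inv_cancel_right]
      rw [h1, heY.map_conj hy hu]
  obtain ⟨η, hη, hηx⟩ := exists_side_real (D := D) hd ha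
  refine ⟨m₀ * η, hP, ?_, fun y hy => ?_⟩
  · rw [QuotientGroup.mk_mul, (QuotientGroup.eq_one_iff η).2 hη, mul_one]
    exact hγ
  · obtain ⟨hfx, hxe, e1⟩ := hex y (hYsub hy)
    rw [emb_of_mem D hfx, e1, ← emb_of_mem D (D.M.le hxe), ← hax y hy, hηx y (hd.Y_le hy)]
    group

theorem isPGroup_range : IsPGroup p D.M.ι.range := D.M.range_eq ▸ D.M.P.isPGroup'

theorem exists_sylow_L₀ : ∃ Q : Sylow p (L₀ Y D),
    (Q : Subgroup (L₀ Y D)) = D.M.ι.range.subgroupOf (L₀ Y D) := by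
  refine ⟨D.M.P.subtype (D.M.range_eq.le.trans (le_sup_left : D.M.ι.range ≤ L₀ Y D)), ?_⟩
  rw [Sylow.coe_subtype, D.M.range_eq]

/-- A `p`-subgroup of `L₀` is conjugated into `S` by an element of `H₀`. -/
theorem exists_align {X : Subgroup D.M.G} (hX : IsPGroup p X) (hXL : X ≤ L₀ Y D) :
    ∃ h ∈ H₀ Y D, ∀ z ∈ X, h * z * h⁻¹ ∈ D.M.ι.range := by
  obtain ⟨Q, hQ⟩ := exists_sylow_L₀ (D := D) hd
  obtain ⟨g, hg, hgz⟩ := exists_conj_into Q hQ hX hXL
  haveI := H₀_normal (D := D) hd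
  have hg' : g ∈ ((D.M.ι.range ⊔ H₀ Y D : Subgroup D.M.G) : Set D.M.G) := hg
  rw [Subgroup.mul_normal] at hg'
  obtain ⟨r, hr, h, hh, rfl⟩ := hg'
  refine ⟨h, hh, fun z hz => ?_⟩
  have h1 := D.M.ι.range.mul_mem (D.M.ι.range.mul_mem (D.M.ι.range.inv_mem hr) (hgz z hz)) hr
  rwa [show r⁻¹ * (r * h * z * (r * h)⁻¹) * r = h * z * h⁻¹ by group] at h1

theorem exists_mul_of_mem_L₀ (hm : m ∈ L₀ Y D) :
    ∃ s ∈ S, ∃ h ∈ H₀ Y D, h * emb D s = m := by
  haveI := H₀_normal (D := D) hd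
  have hg' : m ∈ ((H₀ Y D ⊔ D.M.ι.range : Subgroup D.M.G) : Set D.M.G) := by
    rw [sup_comm]; exact hm
  rw [Subgroup.normal_mul] at hg'
  obtain ⟨h, hh, r, hr, rfl⟩ := hg'
  obtain ⟨s, hs, rfl⟩ := exists_of_mem_range hd hr
  exact ⟨s, hs, h, hh, rfl⟩

theorem lift_of_mem_L₀ (hl : Lift E Y D P f m) (hm : m ∈ L₀ Y D) :
    ∃ s ∈ S, Lift E Y D P f (emb D s) := by
  obtain ⟨s, hs, h, hh, rfl⟩ := exists_mul_of_mem_L₀ hd hm
  exact ⟨s, hs, by simpa using hl.mul_H₀ hd (inv_mem hh)⟩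

end CfsgLib.Fusion.PRE
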