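import Cfsg.Agent.Lib.Fusion.ProductRE.Lift

/-!
The system generated by the maps lifted by elements of `S`, and its saturation at the subgroups of
the family.
-/

set_option autoImplicit false
set_option linter.unusedVariables false
set_option linter.unusedSectionVars false
set_option linter.style.haveILetI false

universe u

namespace CfsgLib.Fusion.PRE

open Cfsg Cfsg.FusionSystem Subgroup CfsgLib.Fusion CfsgLib.Comp.Fus CfsgLib.Comp.EBal

variable {Ω : Type u} [Group Ω] {S T T' Y : Subgroup Ω} {F : FusionSystem S}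
  {E : FusionSystem T} {E' : FusionSystem T'} {p : ℕ} {P Q : Subgroup Ω} {f g : Ω → Ω}

/-- The property defining the system. -/
def InS (E : FusionSystem T) (Y : Subgroup Ω) (D : TopData F E' p) (P : Subgroup Ω) (f : Ω → Ω) :
    Prop :=
  Star E Y S P → ∃ s ∈ S, Lift E Y D P f (emb D s)

variable [Fact p.Prime] [Finite S] (hd : Data F E E' Y p) (D : TopData F E' p)

include hd

theorem inS_congr (hP : InS E Y D P f) (hfg : ∀ x ∈ P, f x = g x) : InS E Y D P g := fun hs => by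
  obtain ⟨s, hsS, hl⟩ := hP hs
  exact ⟨s, hsS, hl.congr hd hfg⟩

theorem inS_conj {s : Ω} (hs : s ∈ S) : InS E Y D P fun x => s * x * s⁻¹ :=
  fun hP => ⟨s, hs, lift_conj_self hd hP hs⟩

theorem inS_comp (hf : IsMap F P f) (hg : IsMap F Q g) (h₁ : InS E Y D P f) (h₂ : InS E Y D Q g)
    (hmem : ∀ x ∈ P, f x ∈ Q) : InS E Y D P fun x => g (f x) := fun hP => by
  obtain ⟨s, hs, hl⟩ := h₁ hP
  obtain ⟨t, ht, hl'⟩ := h₂ (star_mono hd (star_img hd hP hf) (fun y hy => by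
    obtain ⟨x, hx, rfl⟩ := hf.mem_img.1 hy
    exact hmem x hx) hg.le)
  exact ⟨t * s, S.mul_mem ht hs, by rw [emb_mul hd ht hs]; exact hl.comp hd hl' hmem⟩

theorem inS_inv {k : Ω → Ω} (hf : IsMap F P f) (h₁ : InS E Y D P f)
    (hk : ∀ x ∈ P, k (f x) = x) : InS E Y D (img P f) k := fun hP => by
  obtain ⟨s, hs, hl⟩ := h₁ (star_of_img hd hf hP)
  exact ⟨s⁻¹, S.inv_mem hs, by rw [emb_inv hd hs]; exact hl.inv hd hk⟩

/-- The maps of `F` with the property. -/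
noncomputable def predD : FusionSystem S :=
  predSys F (InS E Y D) (fun _ _ _ _ h h' => inS_congr hd D h h')
    (fun _ _ _ hs => inS_conj hd D hs)
    (fun _ _ _ _ hf hg h₁ h₂ hm => inS_comp hd D hf hg h₁ h₂ hm)
    fun _ _ _ hf h₁ _ hk => inS_inv hd D hf h₁ hk

/-- The system generated by the maps on the family lifted by elements of `S`. -/
noncomputable def sysD : FusionSystem S where
  Hom P := {φ | ∀ G : FusionSystem S,
    (∀ Q, Star E Y S Q → (predD hd D).Hom Q ⊆ G.Hom Q) → φ ∈ G.Hom P}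
  le_of_mem h := (predD hd D).le_of_mem (h _ fun _ _ => subset_rfl)
  injective_of_mem h := (predD hd D).injective_of_mem (h _ fun _ _ => subset_rfl)
  conj_mem hP hg G _ := G.conj_mem hP hg
  comp_mem hφ hψ h G hG := G.comp_mem (hφ G hG) (hψ G hG) h
  inv_mem {P φ} hφ := by
    obtain ⟨ψ, hψ, hψx⟩ := (predD hd D).inv_mem (hφ _ fun _ _ => subset_rfl)
    refine ⟨ψ, fun G hG => ?_, hψx⟩
    obtain ⟨ψ', hψ', hψ'x⟩ := G.inv_mem (hφ G hG)
    have e : ψ = ψ' := MonoidHom.ext fun y => by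
      obtain ⟨_, x, rfl⟩ := y
      exact (hψx x).trans (hψ'x x).symm
    exact e ▸ hψ'

theorem sysD_isMap_le {P : Subgroup Ω} {f : Ω → Ω} (h : IsMap (sysD hd D) P f) :
    IsMap (predD hd D) P f :=
  ⟨h.toHom, h.toHom_mem _ fun _ _ => subset_rfl, fun _ => rfl⟩

theorem sysD_sub : (sysD hd D).IsSubsystemOf F := fun P φ hφ => (hφ _ fun _ _ => subset_rfl).1

theorem isMap_sysD_iff (hP : Star E Y S P) :
    IsMap (sysD hd D) P f ↔ ∃ s ∈ S, Lift E Y D P f (emb D s) := by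
  constructor
  · intro h
    exact (isMap_predSys_iff.1 (sysD_isMap_le hd D h)).2 hP
  · rintro ⟨s, hs, hl⟩
    have hp : IsMap (predD hd D) P f :=
      isMap_predSys_iff.2 ⟨hl.isMap hd, fun _ => ⟨s, hs, hl⟩⟩
    exact ⟨hp.toHom, fun G hG => hG P hP hp.toHom_mem, fun _ => rfl⟩

theorem isMap_sysD_of_L₀ {m : D.M.G} (hl : Lift E Y D P f m) (hm : m ∈ L₀ Y D) :
    IsMap (sysD hd D) P f :=
  (isMap_sysD_iff hd D hl.1).2 (lift_of_mem_L₀ hd hl hm)

theorem emb_mem_L₀ {x : Ω} (hx : x ∈ S) : emb D x ∈ L₀ Y D :=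
  mem_sup_left (emb_mem_range hd hx)

theorem H₀_le_L₀ : H₀ Y D ≤ L₀ Y D := le_sup_right

/-- Saturation at the subgroups of the family. -/
theorem sat_star (hP : Star E Y S P) :
    ∃ Q, (sysD hd D).IsConj P Q ∧ (sysD hd D).IsFullyAutomized p Q ∧
      (sysD hd D).IsReceptive Q := by
  have hS := hd.pS
  have hF := hd.sat
  haveI hH₀n := H₀_normal (D := D) hd
  obtain ⟨P₀, hconj, hP₀n⟩ := exists_fullyNormalized_conj F hP.1
  obtain ⟨φ, hφ, rfl⟩ := isConj_iff.1 hconj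
  have hP₀ := star_img hd hP hφ
  set P₀ := img P φ with hP₀def
  have hP₀S : P₀ ≤ S := hP₀.1
  haveI := finite_of_le hP₀S
  have hP₀c := fullyCentralized_of_fullyNormalized hS hF hP₀n
  obtain ⟨m₀, hm₀⟩ := exists_lift_map (D := D) hd hP hφ
  -- the automorphisms lifted into a conjugate of `L₀`
  let Ag : D.M.G → Subgroup (MulAut P₀) := fun g =>
    { carrier := {β | ∃ k, Lift E Y D P₀ (autFun β) k ∧ g * k * g⁻¹ ∈ L₀ Y D}
      one_mem' := ⟨1, (lift_id hd hP₀).congr hd fun x hx => (autFun_one hx).symm, by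
        rw [mul_one, mul_inv_cancel]; exact one_mem _⟩
      mul_mem' := by
        rintro β γ ⟨k, hk, hkL⟩ ⟨l, hl, hlL⟩
        refine ⟨k * l, (hl.comp hd hk fun x hx => autFun_mem γ hx).congr hd
          fun x hx => (autFun_mul_apply β γ hx).symm, ?_⟩
        rw [show g * (k * l) * g⁻¹ = g * k * g⁻¹ * (g * l * g⁻¹) by group]
        exact mul_mem hkL hlL
      inv_mem' := by
        rintro β ⟨k, hk, hkL⟩
        refine ⟨k⁻¹, ?_, ?_⟩
        · have h := hk.inv hd (j := autFun β⁻¹) fun x hx => autFun_inv_apply β hx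
          rwa [img_autFun] at h
        · rw [show g * k⁻¹ * g⁻¹ = (g * k * g⁻¹)⁻¹ by group]
          exact inv_mem hkL }
  have hAgF : ∀ g, Ag g ≤ F.autGroup P₀ := fun g β ⟨k, hk, _⟩ =>
    (autGroup_iff_isMap hP₀S fun x => (autFun_apply β x.2).symm).2 (hk.isMap hd)
  haveI : Finite (MulAut P₀) := Finite.of_injective _ MulEquiv.toEquiv_injective
  obtain ⟨W⟩ : Nonempty (Sylow p (Ag m₀⁻¹)) := inferInstance
  set W₀ := (W : Subgroup (Ag m₀⁻¹)).map (Ag m₀⁻¹).subtype with hW₀def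
  obtain ⟨β, hβF, hβW⟩ := exists_conj_le_autInducedBy (fullyAutomized_of_fullyNormalized hS hF hP₀n)
    W₀ (W.isPGroup'.map _) ((Subgroup.map_subtype_le _).trans (hAgF _))
  obtain ⟨kβ, hkβ⟩ := exists_lift_map (D := D) hd hP₀ (isMap_autFun hP₀S hβF)
  set g₀ := m₀⁻¹ * kβ⁻¹ with hg₀def
  -- the lift `g₀` is aligned
  obtain ⟨j, hj, hjx, hjy, -⟩ := hφ.exists_inv
  have hlg₀ : Lift E Y D P₀ (fun x => j (autFun β⁻¹ x)) g₀ := by
    have h1 := hkβ.inv hd (j := autFun β⁻¹) fun x hx => autFun_inv_apply β hx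
    rw [img_autFun] at h1
    exact h1.comp hd (hm₀.inv hd hjx) fun x hx => autFun_mem _ hx
  let N₁ : Subgroup Ω :=
    { carrier := {n | n ∈ S ∧ g₀ * emb D n * g₀⁻¹ ∈ L₀ Y D}
      one_mem' := ⟨S.one_mem, by rw [emb_one hd, mul_one, mul_inv_cancel]; exact one_mem _⟩
      mul_mem' := fun {a b} ha hb => ⟨S.mul_mem ha.1 hb.1, by
        rw [emb_mul hd ha.1 hb.1, show g₀ * (emb D a * emb D b) * g₀⁻¹ =
          g₀ * emb D a * g₀⁻¹ * (g₀ * emb D b * g₀⁻¹) by group]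
        exact mul_mem ha.2 hb.2⟩
      inv_mem' := fun {a} ha => ⟨S.inv_mem ha.1, by
        rw [emb_inv hd ha.1, show g₀ * (emb D a)⁻¹ * g₀⁻¹ = (g₀ * emb D a * g₀⁻¹)⁻¹ by group]
        exact inv_mem ha.2⟩ }
  have hN₁S : N₁ ≤ S := fun n hn => hn.1
  have hmemN₁ : ∀ {n}, n ∈ N₁ ↔ n ∈ S ∧ g₀ * emb D n * g₀⁻¹ ∈ L₀ Y D := Iff.rfl
  have hPN₁ : P₀ ≤ N₁ := fun x hx => by
    refine hmemN₁.2 ⟨hP₀S hx, ?_⟩
    have h1 := inv_mem (H₀_le_L₀ hd D (hlg₀.apply hd hx))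
    have h2 := emb_mem_L₀ hd D ((hlg₀.isMap hd).mem hx)
    rw [show g₀ * emb D x * g₀⁻¹ = emb D (j (autFun β⁻¹ x)) *
      ((g₀ * emb D x * g₀⁻¹)⁻¹ * emb D (j (autFun β⁻¹ x)))⁻¹ by group]
    exact mul_mem h2 h1
  have hTN₁ : T' ≤ N₁ := fun t ht => by
    obtain ⟨a, ha, hax, hamem⟩ := TopData.exists_conjT hd.ctx (D := D) g₀
    refine hmemN₁.2 ⟨hd.ctx.le ht, ?_⟩
    rw [emb_of_mem D (hax.le ht), ← hax.eq ht, ← emb_of_mem D (hax.mem ht)]
    exact emb_mem_L₀ hd D (ha.mem ht)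
  set X := (D.M.isub N₁).map (MulAut.conj g₀).toMonoidHom with hXdef
  have hXL : X ≤ L₀ Y D := by
    rintro _ ⟨z, hz, rfl⟩
    obtain ⟨n, hn, -, rfl⟩ := exists_of_mem_isub' hd hz
    exact (hmemN₁.1 hn).2
  obtain ⟨h, hh, hhX⟩ := exists_align hd
    (((isPGroup_range (D := D) hd).to_le (WModel.isub_le_range D.M)).map _ : IsPGroup p X) hXL
  set g₁ := h * g₀ with hg₁def
  have hhL := H₀_le_L₀ hd D hh
  have hg₁g₀ : ∀ {z : D.M.G}, g₁ * z * g₁⁻¹ ∈ L₀ Y D ↔ g₀ * z * g₀⁻¹ ∈ L₀ Y D := by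
    intro z
    rw [show g₁ * z * g₁⁻¹ = h * (g₀ * z * g₀⁻¹) * h⁻¹ by rw [hg₁def]; group]
    constructor
    · intro hz
      have := mul_mem (mul_mem (inv_mem hhL) hz) hhL
      rwa [show h⁻¹ * (h * (g₀ * z * g₀⁻¹) * h⁻¹) * h = g₀ * z * g₀⁻¹ by group] at this
    · exact fun hz => mul_mem (mul_mem hhL hz) (inv_mem hhL)
  have hg₁r : ∀ n ∈ N₁, g₁ * emb D n * g₁⁻¹ ∈ D.M.ι.range := fun n hn => by
    rw [show g₁ * emb D n * g₁⁻¹ = h * (g₀ * emb D n * g₀⁻¹) * h⁻¹ by rw [hg₁def]; group]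
    exact hhX _ ⟨emb D n, (emb_mem_isub hd (hN₁S hn)).2 hn, rfl⟩
  have hN₁N : N₁ ≤ normalizerIn S T' := fun n hn => inN hd (hN₁S hn)
  obtain ⟨a, ha, -, hax⟩ := D.M.map N₁ hN₁N g₁ fun x hx => by
    rw [← emb_of_mem D (hN₁N hx)]; exact hg₁r x hx
  have haN : IsMap F N₁ a := ha.mono le_sup_left
  have hreal : D.M.Real N₁ a g₁ := fun x hx =>
    ⟨hN₁N hx, hax x (hN₁N hx) (mem_sup_left hx)⟩
  have hlN₁ : Lift E Y D N₁ a g₁ := lift_of_real hd (star_mono hd hP₀ hPN₁ hN₁S) hreal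
  have hla : Lift E Y D P₀ a g₁ := hlN₁.mono hd hP₀ hPN₁
  have haP : IsMap F P₀ a := haN.mono hPN₁
  set Q := img P₀ a with hQdef
  have hQ := star_img hd hP₀ haP
  have hQS : Q ≤ S := hQ.1
  haveI := finite_of_le hQS
  obtain ⟨b, hb, hbx, hby, hbi⟩ := haP.exists_inv
  have hlb : Lift E Y D Q b g₁⁻¹ := hla.inv hd hbx
  -- conjugacy
  have hPQ : (sysD hd D).IsConj P Q := by
    have hl1 := (hm₀.comp hd hkβ fun x hx => hφ.apply_mem_img hx).comp hd hla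
      fun x hx => autFun_mem β (hφ.apply_mem_img hx)
    have e : g₁ * (kβ * m₀) = h := by rw [hg₁def, hg₀def]; group
    rw [e] at hl1
    refine isConj_iff.2 ⟨_, isMap_sysD_of_L₀ hd D hl1 hhL, ?_⟩
    have hi : img P (fun x => autFun β (φ x)) = P₀ := by
      rw [img_comp_eq hφ (isMap_autFun hP₀S hβF) fun x hx => hφ.apply_mem_img hx, img_autFun]
    rw [img_comp_eq (hφ.comp (isMap_autFun hP₀S hβF) fun x hx => hφ.apply_mem_img hx) haP
      fun x hx => autFun_mem β (hφ.apply_mem_img hx), hi]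
  -- the transported automorphisms
  set θ := MulAut.congr haP.equivImg with hθdef
  have hθv : ∀ (γ : MulAut P₀) (x : P₀), θ γ (haP.equivImg x) = haP.equivImg (γ x) := fun γ x => by
    show haP.equivImg (γ (haP.equivImg.symm (haP.equivImg x))) = _
    rw [MulEquiv.symm_apply_apply]
  have hθf : ∀ (γ : MulAut P₀) (x : Ω) (hx : x ∈ P₀), autFun (θ γ) (a x) = a (autFun γ x) :=
    fun γ x hx => by
      rw [autFun_apply _ (haP.apply_mem_img hx), autFun_apply γ hx]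
      exact congrArg Subtype.val (hθv γ ⟨x, hx⟩)
  have hgroup : (sysD hd D).autGroup Q = (Ag g₁).map θ.toMonoidHom := by
    ext δ
    constructor
    · intro hδ
      obtain ⟨s, hs, hl⟩ := (isMap_sysD_iff hd D hQ).1 (isMap_autFun hQS hδ)
      refine ⟨θ.symm δ, ⟨g₁⁻¹ * (emb D s * g₁), ?_, ?_⟩, MulEquiv.apply_symm_apply θ δ⟩
      · refine ((hla.comp hd hl fun x hx => haP.apply_mem_img hx).comp hd hlb
          fun x hx => autFun_mem δ (haP.apply_mem_img hx)).congr hd fun x hx => ?_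
        show b (autFun δ (a x)) = autFun (θ.symm δ) x
        conv_lhs => rw [← MulEquiv.apply_symm_apply θ δ, hθf _ x hx]
        rw [hbx _ (autFun_mem _ hx)]
      · rw [show g₁ * (g₁⁻¹ * (emb D s * g₁)) * g₁⁻¹ = emb D s by group]
        exact emb_mem_L₀ hd D hs
    · rintro ⟨γ, ⟨k, hk, hkL⟩, rfl⟩
      refine (autGroup_iff_isMap hQS fun y => (autFun_apply _ y.2).symm).2
        (isMap_sysD_of_L₀ hd D (((hlb.comp hd hk fun y hy => (hby y hy).1).comp hd hla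
          fun y hy => autFun_mem γ (hby y hy).1).congr hd fun y hy => ?_) (m := g₁ * (k * g₁⁻¹)) ?_)
      · show a (autFun γ (b y)) = autFun (θ γ) y
        obtain ⟨x, hx, rfl⟩ := haP.mem_img.1 hy
        rw [hbx x hx, hθf γ x hx]
      · rwa [← mul_assoc]
  -- the group of elements normalizing `P₀`
  have hN₁a : ∀ n ∈ N₁, n ∈ normalizer (P₀ : Set Ω) → a n ∈ normalizerIn S Q := fun n hn hnn =>
    haN.apply_mem_normalizerIn hPN₁ hn hnn
  have hsylow : ∀ γ ∈ Ag g₁, γ ∈ autInducedBy S P₀ → θ γ ∈ autInducedBy S Q := by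
    rintro γ ⟨k, hk, hkL⟩ hγ
    obtain ⟨n, hn, hnx⟩ := mem_autInducedBy_iff.1 hγ
    have hln : Lift E Y D P₀ (autFun γ) (emb D n) := (lift_conj_self hd hP₀ hn).congr hd
      fun x hx => by rw [autFun_apply γ hx]; exact (hnx ⟨x, hx⟩).symm
    have hdiff := hln.diff hd hk
    rw [img_autFun] at hdiff
    obtain ⟨c, hc, hck⟩ := hdiff.exists_centralizer hd hP₀c
    set w := c * n with hwdef
    have hwS : w ∈ S := S.mul_mem hc.1 hn
    have hwx : ∀ x : P₀, ((γ x : P₀) : Ω) = w * (x : Ω) * w⁻¹ := fun x => by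
      rw [show w * (x : Ω) * w⁻¹ = c * (n * x * n⁻¹) * c⁻¹ by rw [hwdef]; group, ← hnx x,
        ← hc.2 _ (γ x).2, mul_inv_cancel_right]
    have hwN : w ∈ N₁ := by
      refine hmemN₁.2 ⟨hwS, hg₁g₀.1 ?_⟩
      have h2 : (emb D w)⁻¹ * k ∈ H₀ Y D := by
        have h3 := hH₀n.conj_mem _ hck (emb D n)⁻¹
        rw [inv_inv] at h3
        rw [hwdef, emb_mul hd hc.1 hn, show (emb D c * emb D n)⁻¹ * k =
          (emb D n)⁻¹ * ((emb D c)⁻¹ * (k * (emb D n)⁻¹)) * emb D n by group]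
        exact h3
      rw [show g₁ * emb D w * g₁⁻¹ =
        (g₁ * k * g₁⁻¹) * (g₁ * ((emb D w)⁻¹ * k) * g₁⁻¹)⁻¹ by group]
      exact mul_mem hkL (inv_mem (H₀_le_L₀ hd D (hH₀n.conj_mem _ h2 g₁)))
    refine mem_autInducedBy_iff.2 ⟨a w, haN.mem hwN, fun y => ?_⟩
    obtain ⟨x, rfl⟩ := haP.equivImg.surjective y
    rw [hθv, IsMap.coe_equivImg, IsMap.coe_equivImg, hwx x, haN.map_conj hwN (hPN₁ x.2)]
  -- the Sylow subgroup
  set W₁ := W₀.map (MulAut.conj β).toMonoidHom with hW₁def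
  have hW₁Ag : W₁ ≤ Ag g₁ := by
    rintro _ ⟨γ, hγ, rfl⟩
    obtain ⟨k, hk, hkL⟩ : γ ∈ Ag m₀⁻¹ := Subgroup.map_subtype_le _ hγ
    have hβi := hkβ.inv hd (j := autFun β⁻¹) fun x hx => autFun_inv_apply β hx
    rw [img_autFun] at hβi
    refine ⟨kβ * (k * kβ⁻¹), ((hβi.comp hd hk fun x hx => autFun_mem _ hx).comp hd hkβ
      fun x hx => autFun_mem _ (autFun_mem _ hx)).congr hd fun x hx => ?_, hg₁g₀.2 ?_⟩
    · show autFun β (autFun γ (autFun β⁻¹ x)) = autFun (β * γ * β⁻¹) x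
      rw [autFun_mul_apply _ _ hx, autFun_mul_apply _ _ (autFun_mem _ hx)]
    · rw [show g₀ * (kβ * (k * kβ⁻¹)) * g₀⁻¹ = m₀⁻¹ * k * m₀⁻¹⁻¹ by rw [hg₀def]; group]
      exact hkL
  have hW₁S : W₁ ≤ autInducedBy S P₀ := by
    rintro _ ⟨γ, hγ, rfl⟩
    exact hβW γ hγ
  have hW₂S : W₁.map θ.toMonoidHom ≤ autInducedBy S Q := by
    rintro _ ⟨γ, hγ, rfl⟩
    exact hsylow γ (hW₁Ag hγ) (hW₁S hγ)
  haveI : Finite (MulAut Q) := Finite.of_injective _ MulEquiv.toEquiv_injective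
  have hQle : autInducedBy S Q ≤ (sysD hd D).autGroup Q := autInducedBy_le_autGroup hQS
  have hcardA : Nat.card ((sysD hd D).autGroup Q) = Nat.card (Ag m₀⁻¹) := by
    rw [hgroup, Subgroup.card_map_of_injective θ.injective]
    have e : Ag g₁ = (Ag m₀⁻¹).map (MulAut.conj β).toMonoidHom := by
      ext γ
      constructor
      · rintro ⟨k, hk, hkL⟩
        refine ⟨β⁻¹ * γ * β, ⟨kβ⁻¹ * (k * kβ), ?_, ?_⟩, ?_⟩
        · have hβi := hkβ.inv hd (j := autFun β⁻¹) fun x hx => autFun_inv_apply β hx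
          rw [img_autFun] at hβi
          refine ((hkβ.comp hd hk fun x hx => autFun_mem _ hx).comp hd hβi
            fun x hx => autFun_mem _ (autFun_mem _ hx)).congr hd fun x hx => ?_
          show autFun β⁻¹ (autFun γ (autFun β x)) = autFun (β⁻¹ * γ * β) x
          rw [autFun_mul_apply _ _ hx, autFun_mul_apply _ _ (autFun_mem _ hx)]
        · rw [show m₀⁻¹ * (kβ⁻¹ * (k * kβ)) * m₀⁻¹⁻¹ = g₀ * k * g₀⁻¹ by rw [hg₀def]; group]
          exact hg₁g₀.1 hkL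
        · show β * (β⁻¹ * γ * β) * β⁻¹ = γ
          group
      · rintro ⟨γ', ⟨k, hk, hkL⟩, rfl⟩
        have hβi := hkβ.inv hd (j := autFun β⁻¹) fun x hx => autFun_inv_apply β hx
        rw [img_autFun] at hβi
        refine ⟨kβ * (k * kβ⁻¹), ((hβi.comp hd hk fun x hx => autFun_mem _ hx).comp hd hkβ
          fun x hx => autFun_mem _ (autFun_mem _ hx)).congr hd fun x hx => ?_, hg₁g₀.2 ?_⟩
        · show autFun β (autFun γ' (autFun β⁻¹ x)) = autFun (β * γ' * β⁻¹) x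
          rw [autFun_mul_apply _ _ hx, autFun_mul_apply _ _ (autFun_mem _ hx)]
        · rw [show g₀ * (kβ * (k * kβ⁻¹)) * g₀⁻¹ = m₀⁻¹ * k * m₀⁻¹⁻¹ by rw [hg₀def]; group]
          exact hkL
    rw [e, Subgroup.card_map_of_injective (MulAut.conj β).injective]
  obtain ⟨R', hR'⟩ := ((isPGroup_autInducedBy hS Q).of_equiv
    (Subgroup.subgroupOfEquivOfLe hQle).symm).exists_le_sylow
  have hcardW : Nat.card (R' : Subgroup ((sysD hd D).autGroup Q)) =
      Nat.card (W₁.map θ.toMonoidHom) := by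
    rw [R'.card_eq_multiplicity, hcardA, ← W.card_eq_multiplicity,
      Subgroup.card_map_of_injective θ.injective, hW₁def,
      Subgroup.card_map_of_injective (MulAut.conj β).injective, hW₀def,
      Subgroup.card_map_of_injective (Ag m₀⁻¹).subtype_injective]
  have hsub : Nat.card ((autInducedBy S Q).subgroupOf ((sysD hd D).autGroup Q)) =
      Nat.card (autInducedBy S Q) := Nat.card_congr (Subgroup.subgroupOfEquivOfLe hQle).toEquiv
  have hc1 : Nat.card (autInducedBy S Q) ≤ Nat.card (W₁.map θ.toMonoidHom) := by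
    rw [← hsub, ← hcardW]
    exact Subgroup.card_le_of_le hR'
  have hW₂ : W₁.map θ.toMonoidHom = autInducedBy S Q := eq_of_le_of_card_le hW₂S hc1
  have hR'eq : (autInducedBy S Q).subgroupOf ((sysD hd D).autGroup Q) = R' :=
    eq_of_le_of_card_le hR' (by rw [hsub, hcardW, hW₂])
  refine ⟨Q, hPQ, ⟨hQS, R', hR'eq.symm⟩, receptive_of_extend hQS
    fun P' f hf hfi R hPR hR => ?_⟩
  -- receptivity
  have hfF : IsMap F P' f := isSubsystemOf_iff.1 (sysD_sub hd D) _ _ hf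
  have hP' : Star E Y S P' := star_of_img hd hfF (hfi ▸ hQ)
  obtain ⟨s, hs, hlf⟩ := (isMap_sysD_iff hd D hP').1 hf
  have hfQ : ∀ x ∈ P', f x ∈ Q := fun x hx => hfi ▸ hfF.apply_mem_img hx
  have hl₀ := hlf.comp hd hlb hfQ
  set f₀ : Ω → Ω := fun x => b (f x) with hf₀def
  have hf₀ : IsMap F P' f₀ := hfF.comp hb hfQ
  have hf₀i : img P' f₀ = P₀ := by rw [hf₀def, img_comp_eq hfF hb hfQ, hfi, hbi]
  obtain ⟨G, hG, hGx⟩ := receptive_extend (receptive_of_fullyNormalized hS hF hP₀n) hf₀ hf₀i hPR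
    fun r hr => by
      obtain ⟨hrS, hrn, t, ht, htx⟩ := hR r hr
      refine ⟨hrS, hrn, ?_⟩
      have htQ : ∀ y ∈ Q, t * y * t⁻¹ ∈ Q := fun y hy => by
        obtain ⟨x, hx, rfl⟩ := hfF.mem_img.1 (hfi.ge hy)
        rw [← htx x hx]
        exact hfQ _ ((hrn x).1 hx)
      set τ : MulAut Q := Q.normalizerMonoidHom ⟨t, mem_normalizer_of_conj_le htQ⟩ with hτ
      have hτS : τ ∈ autInducedBy S Q := mem_autInducedBy_iff.2 ⟨t, ht, fun _ => rfl⟩
      obtain ⟨γ, hγ, hγτ⟩ := hW₂.ge hτS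
      obtain ⟨n, hn, hnx⟩ := mem_autInducedBy_iff.1 (hW₁S hγ)
      refine ⟨n, hn, fun x hx => ?_⟩
      have hfx := hby _ (hfQ x hx)
      show b (f (r * x * r⁻¹)) = n * b (f x) * n⁻¹
      rw [htx x hx, ← hnx ⟨b (f x), hfx.1⟩, ← autFun_apply γ hfx.1]
      have e1 : t * f x * t⁻¹ = autFun τ (f x) := by rw [autFun_apply τ (hfQ x hx)]; rfl
      rw [e1, ← hγτ]
      show b (autFun (θ γ) (f x)) = _
      conv_lhs => rw [← hfx.2, hθf γ _ hfx.1]
      rw [hbx _ (autFun_mem γ hfx.1)]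
  have hR' : Star E Y S R := star_mono hd hP' hPR hG.le
  obtain ⟨k, hk⟩ := exists_lift_map (D := D) hd hR' hG
  have hdiff := ((hk.mono hd hP' hPR).congr hd hGx).diff hd hl₀
  rw [hf₀i] at hdiff
  obtain ⟨c, hc, hck⟩ := hdiff.exists_centralizer hd hP₀c
  set G' : Ω → Ω := fun r => c * G r * c⁻¹ with hG'def
  have hRS : R ≤ S := hG.le
  have hlG' : Lift E Y D R G' (g₁⁻¹ * emb D s) := by
    have h1 := hk.comp hd (lift_conj_self hd (star_img hd hR' hG) hc.1)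
      fun x hx => hG.apply_mem_img hx
    have h2 := hH₀n.conj_mem _ hck (emb D c)
    have h3 := h1.mul_H₀ hd h2
    rwa [show emb D c * ((emb D c)⁻¹ * (g₁⁻¹ * emb D s * k⁻¹)) * (emb D c)⁻¹ * (emb D c * k) =
      g₁⁻¹ * emb D s by group] at h3
  have hG'x : ∀ x ∈ P', G' x = f₀ x := fun x hx => by
    show c * G x * c⁻¹ = f₀ x
    rw [hGx x hx, ← hc.2 _ (hf₀i ▸ hf₀.apply_mem_img hx), mul_inv_cancel_right]
  have hG'F := hlG'.isMap hd
  have hG'N : ∀ r ∈ R, G' r ∈ N₁ := fun r hr => by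
    refine hmemN₁.2 ⟨hG'F.mem hr, hg₁g₀.1 ?_⟩
    have h1 := hH₀n.conj_mem _ (hlG'.apply hd hr) g₁
    have h2 : g₁ * emb D (G' r) * g₁⁻¹ = (emb D s * emb D r * (emb D s)⁻¹) *
        (g₁ * ((g₁⁻¹ * emb D s * emb D r * (g₁⁻¹ * emb D s)⁻¹)⁻¹ * emb D (G' r)) * g₁⁻¹) := by
      group
    rw [h2, ← emb_conj hd hs (hRS hr)]
    exact mul_mem (emb_mem_L₀ hd D (S.mul_mem (S.mul_mem hs (hRS hr)) (S.inv_mem hs)))
      (H₀_le_L₀ hd D h1)
  refine ⟨fun r => a (G' r), isMap_sysD_of_L₀ hd D (m := g₁ * (g₁⁻¹ * emb D s))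
    (hlG'.comp hd hlN₁ hG'N) (by rw [mul_inv_cancel_left]; exact emb_mem_L₀ hd D hs),
    fun x hx => ?_⟩
  show a (G' x) = f x
  rw [hG'x x hx]
  exact (hby _ (hfQ x hx)).2

end CfsgLib.Fusion.PRE
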