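import Cfsg.Agent.S5110
import Cfsg.Agent.Lib.Fusion.ProductRE.Sys
import Cfsg.Agent.Lib.Comp.FusionStabilizer

/-!
The generated system is saturated: the subgroups outside the family are not radical in it.
-/

set_option autoImplicit false
set_option linter.unusedVariables false
set_option linter.unusedSectionVars false
set_option linter.style.haveILetI false

universe u

namespace CfsgLib.Fusion.PRE

open Cfsg Cfsg.FusionSystem Subgroup CfsgLib.Fusion CfsgLib.Comp.Fus CfsgLib.Comp.EBal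

variable {Ω : Type u} [Group Ω] {S T T' Y : Subgroup Ω} {F : FusionSystem S}
  {E : FusionSystem T} {E' : FusionSystem T'} {p : ℕ} {P Q R : Subgroup Ω} {f g : Ω → Ω}

variable [Fact p.Prime] [Finite S] (hd : Data F E E' Y p) (D : TopData F E' p)

include hd

/-- A subgroup of `S` containing `T'` belongs to the family. -/
theorem star_of_top (hP : P ≤ S) (hT : T' ≤ P) : Star E Y S P := by
  haveI := finite_of_le hd.leT
  exact ⟨hP, hd.Y_le.trans hT, centric_of_le (centric_top (hd.pS.to_le hd.leT) hd.norm.1.1)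
    (le_inf (hd.T_le.trans hT) le_rfl) inf_le_right⟩

theorem isMap_sysD_of_sub (h : IsMap (sysD hd D) P f) : IsMap F P f :=
  isSubsystemOf_iff.1 (sysD_sub hd D) _ _ h

/-- Every map of the system extends over `Y`. -/
theorem exists_ext_Y (hf : IsMap (sysD hd D) P f) :
    ∃ g, IsMap (sysD hd D) (P ⊔ Y) g ∧ ∀ x ∈ P, g x = f x := by
  haveI := finite_of_le hd.leY
  have hYD : (sysD hd D).StronglyClosed Y :=
    CfsgLib.Comp.Fus.stronglyClosed_of_sub (sysD_sub hd D) hd.closed hd.leY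
  let G := predSys (sysD hd D)
    (fun P f => ∃ g, IsMap (sysD hd D) (P ⊔ Y) g ∧ ∀ x ∈ P, g x = f x)
    (fun P f g _ ⟨k, hk, hkx⟩ hfg => ⟨k, hk, fun x hx => (hkx x hx).trans (hfg x hx)⟩)
    (fun P s hP hs => ⟨_, isMap_conj _ (sup_le hP hd.leY) hs, fun x _ => rfl⟩)
    (fun P Q f g hf hg ⟨k, hk, hkx⟩ ⟨l, hl, hlx⟩ hmem => ⟨fun x => l (k x),
      hk.comp hl fun x hx => by
        refine hk.img_sup_le le_sup_left le_sup_right (fun y hy => ?_) (fun y hy => ?_)
          (hk.apply_mem_img hx)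
        · obtain ⟨z, hz, rfl⟩ := (hk.mono le_sup_left).mem_img.1 hy
          exact mem_sup_left (hkx z hz ▸ hmem z hz)
        · obtain ⟨z, hz, rfl⟩ := (hk.mono le_sup_right).mem_img.1 hy
          exact mem_sup_right (StronglyClosed.apply_mem hYD hk (mem_sup_right hz) hz),
      fun x hx => by
        show l (k x) = g (f x)
        rw [hkx x hx, hlx _ (hmem x hx)]⟩)
    (fun P f k hf ⟨l, hl, hlx⟩ hk hkx => by
      obtain ⟨j, hj, hjx, -, -⟩ := hl.exists_inv
      have hle : img P f ⊔ Y ≤ img (P ⊔ Y) l := by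
        refine sup_le (fun y hy => ?_) fun y hy => ?_
        · obtain ⟨x, hx, rfl⟩ := hf.mem_img.1 hy
          exact hlx x hx ▸ hl.apply_mem_img (mem_sup_left hx)
        · exact img_mono le_sup_right
            ((StronglyClosed.img_eq hd.closed (isMap_sysD_of_sub hd D hl) le_sup_right).ge hy)
      refine ⟨j, hj.mono hle, fun y hy => ?_⟩
      obtain ⟨x, hx, rfl⟩ := hf.mem_img.1 hy
      rw [hkx x hx, ← hlx x hx, hjx x (mem_sup_left hx)])
  have hG : hf.toHom ∈ G.Hom P := hf.toHom_mem G fun Q hQ φ hφ =>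
    ⟨fun G' hG' => hG' Q hQ hφ, toFun φ,
      (show IsMap (sysD hd D) Q (toFun φ) from
        ⟨φ, fun G' hG' => hG' Q hQ hφ, fun x => (toFun_apply φ x).symm⟩).mono
          (sup_le le_rfl hQ.2.1), fun x _ => rfl⟩
  exact (isMap_predSys_iff.1 (⟨hf.toHom, hG, fun _ => rfl⟩ : IsMap G P f)).2

/-- A map is a map of the system followed by a map of the model on the image and `T'`. -/
def Dec (P : Subgroup Ω) (φ : Ω → Ω) : Prop :=
  ∃ ψ a : Ω → Ω, ∃ m : D.M.G, IsMap (sysD hd D) P ψ ∧ D.M.Real (img P ψ ⊔ T') a m ∧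
    ∀ x ∈ P, φ x = a (ψ x)

theorem dec_congr {φ φ' : Ω → Ω} (h : Dec hd D P φ) (e : ∀ x ∈ P, φ x = φ' x) :
    Dec hd D P φ' := by
  obtain ⟨ψ, a, m, h1, h2, h3⟩ := h
  exact ⟨ψ, a, m, h1, h2, fun x hx => (e x hx).symm.trans (h3 x hx)⟩

theorem dec_id (hP : P ≤ S) : Dec hd D P id :=
  ⟨id, id, 1, isMap_id _ hP, WModel.real_one ((sup_le ((isMap_id (sysD hd D) hP).img_le)
    hd.ctx.le).trans (TopData.nT hd.ctx).ge), fun x _ => rfl⟩

/-- The maps on the family decompose. -/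
theorem dec_of_star (hP : Star E Y S P) {φ : Ω → Ω} (hφ : IsMap F P φ) : Dec hd D P φ := by
  haveI hH₀n := H₀_normal (D := D) hd
  obtain ⟨m, hm⟩ := exists_lift_map (D := D) hd hP hφ
  obtain ⟨j, hj, hjx, hjy, -⟩ := hφ.exists_inv
  have hmi := hm.inv hd hjx
  have hφP := star_img hd hP hφ
  let N : Subgroup Ω :=
    { carrier := {n | n ∈ S ∧ m⁻¹ * emb D n * m⁻¹⁻¹ ∈ L₀ Y D}
      one_mem' := ⟨S.one_mem, by rw [emb_one hd, mul_one, mul_inv_cancel]; exact one_mem _⟩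
      mul_mem' := fun {a b} ha hb => ⟨S.mul_mem ha.1 hb.1, by
        rw [emb_mul hd ha.1 hb.1, show m⁻¹ * (emb D a * emb D b) * m⁻¹⁻¹ =
          m⁻¹ * emb D a * m⁻¹⁻¹ * (m⁻¹ * emb D b * m⁻¹⁻¹) by group]
        exact mul_mem ha.2 hb.2⟩
      inv_mem' := fun {a} ha => ⟨S.inv_mem ha.1, by
        rw [emb_inv hd ha.1, show m⁻¹ * (emb D a)⁻¹ * m⁻¹⁻¹ = (m⁻¹ * emb D a * m⁻¹⁻¹)⁻¹ by group]
        exact inv_mem ha.2⟩ }
  have hNS : N ≤ S := fun n hn => hn.1
  have hPN : img P φ ≤ N := fun y hy => by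
    refine ⟨hφP.1 hy, ?_⟩
    have h1 := inv_mem (H₀_le_L₀ hd D (hmi.apply hd hy))
    have h2 := emb_mem_L₀ hd D ((hmi.isMap hd).mem hy)
    rw [show m⁻¹ * emb D y * m⁻¹⁻¹ = emb D (j y) *
      ((m⁻¹ * emb D y * m⁻¹⁻¹)⁻¹ * emb D (j y))⁻¹ by group]
    exact mul_mem h2 h1
  have hTN : T' ≤ N := fun t ht => by
    obtain ⟨a, ha, hax, -⟩ := TopData.exists_conjT hd.ctx (D := D) m⁻¹
    refine ⟨hd.ctx.le ht, ?_⟩
    rw [emb_of_mem D (hax.le ht), ← hax.eq ht, ← emb_of_mem D (hax.mem ht)]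
    exact emb_mem_L₀ hd D (ha.mem ht)
  have hXL : (D.M.isub N).map (MulAut.conj m⁻¹).toMonoidHom ≤ L₀ Y D := by
    rintro _ ⟨z, hz, rfl⟩
    obtain ⟨n, hn, -, rfl⟩ := exists_of_mem_isub' hd hz
    exact hn.2
  obtain ⟨h, hh, hhX⟩ := exists_align hd
    (((isPGroup_range (D := D) hd).to_le (WModel.isub_le_range D.M)).map _) hXL
  set k := h * m⁻¹ with hk
  have hkr : ∀ n ∈ N, k * emb D n * k⁻¹ ∈ D.M.ι.range := fun n hn => by
    rw [show k * emb D n * k⁻¹ = h * (m⁻¹ * emb D n * m⁻¹⁻¹) * h⁻¹ by rw [hk]; group]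
    exact hhX _ ⟨emb D n, (emb_mem_isub hd (hNS hn)).2 hn, rfl⟩
  have hNN : N ≤ normalizerIn S T' := fun n hn => inN hd (hNS hn)
  obtain ⟨b, hb, -, hbx⟩ := D.M.map N hNN k fun x hx => by
    rw [← emb_of_mem D (hNN hx)]; exact hkr x hx
  have hbN : IsMap F N b := hb.mono le_sup_left
  have hreal : D.M.Real N b k := fun x hx => ⟨hNN hx, hbx x (hNN hx) (mem_sup_left hx)⟩
  have hlN : Lift E Y D N b k := lift_of_real hd (star_mono hd hφP hPN hNS) hreal
  have hcomp := hm.comp hd hlN fun x hx => hPN (hφ.apply_mem_img hx)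
  rw [show k * m = h by rw [hk]; group] at hcomp
  have hψ : IsMap (sysD hd D) P fun x => b (φ x) :=
    isMap_sysD_of_L₀ hd D hcomp (H₀_le_L₀ hd D hh)
  obtain ⟨a, ha, hax, hay, -⟩ := hbN.exists_inv
  refine ⟨fun x => b (φ x), a, k⁻¹, hψ, fun y hy => ?_, fun x hx =>
    (hax _ (hPN (hφ.apply_mem_img hx))).symm⟩
  have hyA : y ∈ img N b := by
    refine (sup_le (fun z hz => ?_) (fun z hz => ?_) : img P (fun x => b (φ x)) ⊔ T' ≤ _) hy
    · obtain ⟨x, hx, rfl⟩ := hψ.mem_img.1 hz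
      exact hbN.apply_mem_img (hPN (hφ.apply_mem_img hx))
    · exact img_mono hTN ((StronglyClosed.img_eq hd.ctx.closed hbN hTN).ge hz)
  obtain ⟨hA, hbA⟩ := hay y hyA
  have hyN : y ∈ normalizerIn S T' := inN hd (hbN.img_le hyA)
  refine ⟨hyN, hNN hA, ?_⟩
  have e := hreal.eq hA
  rw [show (⟨b (a y), hreal.mem hA⟩ : normalizerIn S T') = ⟨y, hyN⟩ from Subtype.ext hbA] at e
  rw [e]
  group

/-- Decompositions may be followed by the maps on the family. -/
theorem dec_post (hR : Star E Y S R) (hf : IsMap F R f) {φ : Ω → Ω} (h : Dec hd D P φ)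
    (hmem : ∀ x ∈ P, φ x ∈ R) : Dec hd D P fun x => f (φ x) := by
  obtain ⟨ψ, a, m, hψ, ha, hx⟩ := h
  set B := img P ψ ⊔ T'
  have hBS : B ≤ S := fun x hx => (ha.le hx).1
  have hBstar := star_of_top hd hBS le_sup_right
  have haB : IsMap F B a := (lift_of_real hd hBstar ha).isMap hd
  have hTA : T' ≤ img B a :=
    (StronglyClosed.img_eq hd.ctx.closed haB le_sup_right).ge.trans (img_mono le_sup_right)
  set R₀ := R ⊓ img B a with hR₀
  have hR₀star : Star E Y S R₀ := ⟨inf_le_left.trans hR.1, le_inf hR.2.1 (hd.Y_le.trans hTA),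
    centric_of_le hR.2.2 (le_inf (le_inf inf_le_left (inf_le_right.trans (hd.T_le.trans hTA)))
      inf_le_right) inf_le_right⟩
  obtain ⟨b, hb, hbx, hby, -⟩ := haB.exists_inv
  have hb₀ := hb.mono (inf_le_right : R₀ ≤ _)
  set X := img R₀ b with hX
  have hXstar : Star E Y S X := star_img hd hR₀star hb₀
  have hXB : X ≤ B := fun x hx => by
    obtain ⟨z, hz, rfl⟩ := hb₀.mem_img.1 hx
    exact (hby z hz.2).1
  have haX : ∀ x ∈ X, a x ∈ R := fun x hx => by
    obtain ⟨z, hz, rfl⟩ := hb₀.mem_img.1 hx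
    rw [(hby z hz.2).2]
    exact hz.1
  obtain ⟨ψ', a', m', hψ', ha', hx'⟩ := dec_of_star hd D hXstar ((haB.mono hXB).comp hf haX)
  have hψX : ∀ x ∈ P, ψ x ∈ X := fun x hxP => by
    have hxB : ψ x ∈ B := mem_sup_left (hψ.apply_mem_img hxP)
    have hmem' : φ x ∈ R₀ := ⟨hmem x hxP, hx x hxP ▸ haB.apply_mem_img hxB⟩
    have h1 := hb₀.apply_mem_img hmem'
    rwa [hx x hxP, hbx _ hxB] at h1
  have hcomp := hψ.comp hψ' hψX
  refine ⟨fun x => ψ' (ψ x), a', m', hcomp, ha'.mono (sup_le_sup_right (fun y hy => ?_) T'),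
    fun x hxP => ?_⟩
  · obtain ⟨x, hxP, rfl⟩ := hcomp.mem_img.1 hy
    exact hψ'.apply_mem_img (hψX x hxP)
  · show f (φ x) = a' (ψ' (ψ x))
    rw [hx x hxP]
    exact hx' _ (hψX x hxP)

/-- Every map of `F` on a subgroup containing `Y` decomposes. -/
theorem dec_of_map (hY : Y ≤ P) (hf : IsMap F P f) : Dec hd D P f := by
  haveI := finite_of_le hd.leY
  let Pr : Subgroup Ω → (Ω → Ω) → Prop := fun P f => Y ≤ P → ∀ P₀ φ, Dec hd D P₀ φ →
    ((∀ x ∈ P₀, φ x ∈ P) → Dec hd D P₀ fun x => f (φ x)) ∧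
    ∀ k : Ω → Ω, (∀ x ∈ P, k (f x) = x) → (∀ x ∈ P₀, φ x ∈ img P f) →
      Dec hd D P₀ fun x => k (φ x)
  have hconj : ∀ P s, P ≤ S → s ∈ S → Pr P fun x => s * x * s⁻¹ := by
    intro P s hP hs _ P₀ φ hφ
    have hStop := star_of_top hd le_rfl hd.ctx.le
    refine ⟨fun hm => dec_post hd D hStop (isMap_conj F le_rfl hs) hφ fun x hx => hP (hm x hx),
      fun k hk hm => ?_⟩
    have hc : IsMap F P fun x => s * x * s⁻¹ := isMap_conj F hP hs
    refine dec_congr hd D (dec_post hd D hStop (isMap_conj F le_rfl (S.inv_mem hs)) hφ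
      fun x hx => hc.img_le (hm x hx)) fun x hx => ?_
    obtain ⟨z, hz, e⟩ := hc.mem_img.1 (hm x hx)
    rw [← e, hk z hz]
    group
  let G := predSys F Pr
    (fun P f g _ h hfg hY P₀ φ hφ => ⟨fun hm => dec_congr hd D ((h hY P₀ φ hφ).1 hm)
      fun x hx => hfg _ (hm x hx), fun k hk hm => (h hY P₀ φ hφ).2 k
        (fun x hx => by rw [hfg x hx]; exact hk x hx) (by rwa [img_congr hfg])⟩)
    hconj
    (fun P Q f g hf hg h₁ h₂ hmem hY P₀ φ hφ => by
      have hYQ : Y ≤ Q := fun y hy => by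
        obtain ⟨x, hx, rfl⟩ := (hf.mono hY).mem_img.1
          ((StronglyClosed.img_eq hd.closed hf hY).ge hy)
        exact hmem x (hY hx)
      refine ⟨fun hm => (h₂ hYQ P₀ _ ((h₁ hY P₀ φ hφ).1 hm)).1 fun x hx => hmem _ (hm x hx),
        fun k hk hm => ?_⟩
      obtain ⟨j, -, hjx, -, -⟩ := hg.exists_inv
      have hgf := hf.comp hg hmem
      have h3 := (h₂ hYQ P₀ φ hφ).2 j hjx fun x hx => by
        obtain ⟨z, hz, e⟩ := hgf.mem_img.1 (hm x hx)
        exact e ▸ hg.apply_mem_img (hmem z hz)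
      refine dec_congr hd D ((h₁ hY P₀ _ h3).2 (fun y => k (g y)) hk fun x hx => ?_) fun x hx => ?_
      · obtain ⟨z, hz, e⟩ := hgf.mem_img.1 (hm x hx)
        show j (φ x) ∈ img P f
        rw [← e, hjx _ (hmem z hz)]
        exact hf.apply_mem_img hz
      · obtain ⟨z, hz, e⟩ := hgf.mem_img.1 (hm x hx)
        show k (g (j (φ x))) = k (φ x)
        rw [← e, hjx _ (hmem z hz)])
    (fun P f k hf h hk hkx hY P₀ φ hφ => by
      have hY' : Y ≤ P := fun y hy => by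
        obtain ⟨x, hx, rfl⟩ := (hk.mono hY).mem_img.1
          ((StronglyClosed.img_eq hd.closed hk hY).ge hy)
        obtain ⟨z, hz, rfl⟩ := hf.mem_img.1 (hY hx)
        rwa [hkx z hz]
      refine ⟨fun hm => (h hY' P₀ φ hφ).2 k hkx hm, fun k' hk' hm => ?_⟩
      have hmemP : ∀ y ∈ img (img P f) k, y ∈ P ∧ k' y = f y := fun y hy => by
        obtain ⟨w, hw, rfl⟩ := hk.mem_img.1 hy
        obtain ⟨z, hz, rfl⟩ := hf.mem_img.1 hw
        refine ⟨by rwa [hkx z hz], ?_⟩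
        rw [hk' _ hw, hkx z hz]
      exact dec_congr hd D ((h hY' P₀ φ hφ).1 fun x hx => (hmemP _ (hm x hx)).1)
        fun x hx => (hmemP _ (hm x hx)).2.symm)
  have hle : F ≤ G := by
    refine alperin hd.pS hd.sat fun R hR α hα => ?_
    have hRS : R ≤ S := by
      rcases hR with rfl | hR
      · exact le_rfl
      · exact hR.1.1
    refine (autGroup_iff_isMap hRS fun x => (autFun_apply α x.2).symm).2
      (isMap_predSys_iff.2 ⟨isMap_autFun hRS hα, fun hY P₀ φ hφ => ?_⟩)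
    have hstar : Star E Y S R := by
      rcases hR with rfl | hR
      · exact star_of_top hd le_rfl hd.ctx.le
      · refine ⟨hRS, hY, not_not.1 fun hc => ?_⟩
        exact not_radical hd.pS hd.norm.1 hR.1 hc (essential_isRadical hd.pS hd.sat hR)
    refine ⟨fun hm => dec_post hd D hstar (isMap_autFun hRS hα) hφ hm, fun k hk hm => ?_⟩
    refine dec_congr hd D (dec_post hd D hstar (isMap_autFun hRS (inv_mem hα)) hφ
      fun x hx => img_autFun.le (hm x hx)) fun x hx => ?_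
    have hxR : φ x ∈ R := img_autFun.le (hm x hx)
    conv_rhs => rw [← autFun_apply_inv α hxR]
    rw [hk _ (autFun_mem _ hxR)]
  have h := (isMap_predSys_iff.1 (le_iff_isMap.1 hle P f hf)).2 hY P id (dec_id hd D hf.le)
  exact h.1 fun x hx => hx

/-- A conjugation stabilizing the chain gives the condition of the criterion. -/
theorem not_le_inn (hQ : (sysD hd D).IsCentric Q) {A : Subgroup (MulAut Q)}
    (hA : A ≤ (pCore p ((sysD hd D).autGroup Q)).map ((sysD hd D).autGroup Q).subtype)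
    {n : Ω} (hn : n ∈ normalizerIn S Q) (hnQ : n ∉ Q)
    (hnA : Q.normalizerMonoidHom ⟨n, hn.2⟩ ∈ A) :
    ¬ (autInducedBy S Q ⊓ (pCore p ((sysD hd D).autGroup Q)).map
      ((sysD hd D).autGroup Q).subtype ≤ Inn Q) := fun hle =>
  hnQ (mem_of_normalizerMonoidHom_mem_inn hQ hn
    (hle ⟨mem_autInducedBy_iff.2 ⟨n, hn.1, fun _ => rfl⟩, hA hnA⟩))

/-- The condition of the criterion when `Y` is not contained. -/
theorem hstar_Y (hP : (sysD hd D).IsCentric P) (hY : ¬ Y ≤ P) :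
    ∃ Q, (sysD hd D).IsConj P Q ∧ ¬ (autInducedBy S Q ⊓ (pCore p ((sysD hd D).autGroup Q)).map
      ((sysD hd D).autGroup Q).subtype ≤ Inn Q) := by
  have hPS := hP.1
  haveI := finite_of_le hd.leY
  haveI := finite_of_le hPS
  have hlt : P < P ⊔ Y :=
    lt_of_le_of_ne le_sup_left fun h => hY (h ▸ le_sup_right)
  have hPYS : P ⊔ Y ≤ S := sup_le hPS hd.leY
  haveI := finite_of_le hPYS
  obtain ⟨w, hw, hwP⟩ := SetLike.exists_of_lt (lt_normalizerIn (hd.pS.to_le hPYS) hlt)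
  have hn : P ≤ normalizer (Y : Set Ω) := hPS.trans (StronglyClosed.le_normalizer hd.closed)
  obtain ⟨a, ha, y, hy, rfl⟩ : ∃ a ∈ P, ∃ y ∈ Y, a * y = w := by
    have h : w ∈ ((P ⊔ Y : Subgroup Ω) : Set Ω) := hw.1
    rwa [Subgroup.coe_mul_of_left_le_normalizer_right P Y hn, Set.mem_mul] at h
  have hyN : y ∈ normalizer (P : Set Ω) := by
    have h := (normalizer (P : Set Ω)).mul_mem ((normalizer (P : Set Ω)).inv_mem
      (P.le_normalizer ha)) hw.2
    rwa [inv_mul_cancel_left] at h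
  refine ⟨P, isConj_refl hPS, not_le_inn hd D hP (A := autInducedBy Y P) ?_
    ⟨hd.leY hy, hyN⟩ (fun h => hwP (P.mul_mem ha h))
    (mem_autInducedBy_iff.2 ⟨y, hy, fun _ => rfl⟩)⟩
  set A := autInducedBy Y P with hAdef
  have hAle : A ≤ (sysD hd D).autGroup P := fun α hα => by
    obtain ⟨n, hn, hnx⟩ := mem_autInducedBy_iff.1 hα
    exact autInducedBy_le_autGroup hPS (mem_autInducedBy_iff.2 ⟨n, hd.leY hn, hnx⟩)
  have hmem : A.subgroupOf ((sysD hd D).autGroup P) ∈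
      {N : Subgroup ((sysD hd D).autGroup P) | N.Normal ∧ IsPGroup p N} := by
    refine ⟨⟨fun α hα γ => ?_⟩, ((isPGroup_autInducedBy (hd.pS.to_le hd.leY) P).of_equiv
      (Subgroup.subgroupOfEquivOfLe hAle).symm)⟩
    obtain ⟨n, hn, hnx⟩ := mem_autInducedBy_iff.1 (hα : (α : MulAut P) ∈ A)
    obtain ⟨g, hg, hgx⟩ := exists_ext_Y hd D (isMap_autFun hPS γ.2)
    refine mem_autInducedBy_iff.2 ⟨g n, StronglyClosed.apply_mem hd.closed
      (isMap_sysD_of_sub hd D hg) (mem_sup_right hn) hn, fun x => ?_⟩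
    set z := (γ : MulAut P)⁻¹ x with hz
    have e : x = (γ : MulAut P) z := (MulAut.apply_inv_self _ _ x).symm
    have h1 := hgx (n * (z : Ω) * n⁻¹) (hnx z ▸ ((α : MulAut P) z).2)
    rw [hg.map_conj (mem_sup_right hn) (mem_sup_left z.2), hgx z z.2, autFun_apply _ z.2] at h1
    show (((γ : MulAut P) ((α : MulAut P) z) : P) : Ω) = g n * (x : Ω) * (g n)⁻¹
    rw [e]
    rw [h1, autFun_apply _ (hnx z ▸ ((α : MulAut P) z).2)]
    congr 2
    exact Subtype.ext (hnx z)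
  intro α hα
  exact ⟨⟨α, hAle hα⟩, (le_sSup hmem : A.subgroupOf _ ≤ pCore p _) hα, rfl⟩

/-- The condition of the criterion when the intersection with `T` is not centric in `E`. -/
theorem hstar_T (hP : (sysD hd D).IsCentric P) (hY : Y ≤ P) (hV : ¬ E.IsCentric (P ⊓ T)) :
    ∃ Q, (sysD hd D).IsConj P Q ∧ ¬ (autInducedBy S Q ⊓ (pCore p ((sysD hd D).autGroup Q)).map
      ((sysD hd D).autGroup Q).subtype ≤ Inn Q) := by
  obtain ⟨⟨hEsat, hF, hinv⟩, -⟩ := id hd.norm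
  have hS := hd.pS
  have hsc := hd.closedT
  have hTS := hd.leT
  haveI := finite_of_le hTS
  have hTp := hS.to_le hTS
  have hPS := hP.1
  set V := P ⊓ T with hVdef
  have hVP : V ≤ P := inf_le_left
  obtain ⟨V₁, hV₁, hV₁n⟩ := exists_fullyNormalized_conj F (hVP.trans hPS)
  obtain ⟨f, hf, hfi, -⟩ := exists_map_normalizerIn_of_fullyNormalized hS hF hV₁n hV₁
  have hPN : P ≤ normalizerIn S V := le_inf hPS (CfsgLib.Comp.le_normalizer_inf P.le_normalizer
    (hPS.trans (StronglyClosed.le_normalizer hsc)))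
  have hfP : IsMap F P f := hf.mono hPN
  have hV₁T : V₁ ≤ T := fun y hy => by
    obtain ⟨x, hx, rfl⟩ := (hfP.mono hVP).mem_img.1 (hfi.symm ▸ hy)
    exact StronglyClosed.apply_mem hsc hfP hx.1 hx.2
  obtain ⟨ψ, a, m, hψ, ha, hx⟩ := dec_of_map hd D hY hfP
  have hψF := isMap_sysD_of_sub hd D hψ
  set Q := img P ψ with hQdef
  have hQS : Q ≤ S := hψ.img_le
  set B := Q ⊔ T'
  have haB : IsMap F B a :=
    (lift_of_real hd (star_of_top hd (sup_le hQS hd.ctx.le) le_sup_right) ha).isMap hd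
  have hTB : T ≤ B := hd.T_le.trans le_sup_right
  set C := centralizerIn T (Q ⊓ T)
  have hnot : ¬ C ≤ Q ⊓ T := fun h => hV (by
    have hEn := fullyNormalized_subsystem hS hF hsc hinv.1 hV₁T hV₁n
    have hc : E.IsCentric V₁ := by
      refine centric_of_fullyCentralized hTp hEsat (fullyCentralized_of_fullyNormalized hTp hEsat hEn)
        fun c hc => ?_
      obtain ⟨c₀, hc₀, rfl⟩ := (haB.mono hTB).mem_img.1
        ((StronglyClosed.img_eq hsc haB hTB).ge hc.1)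
      have hc₀C : c₀ ∈ C := by
        refine ⟨hc₀, fun z hz => ?_⟩
        obtain ⟨x, hxP, rfl⟩ := hψ.mem_img.1 hz.1
        have hxT : x ∈ T := by
          obtain ⟨k, hk, hkx, -, -⟩ := hψF.exists_inv
          have := StronglyClosed.apply_mem hsc hk hz.1 hz.2
          rwa [hkx x hxP] at this
        have h1 := hc.2 (f x) (hfi ▸ (hfP.mono hVP).apply_mem_img ⟨hxP, hxT⟩)
        rw [hx x hxP, ← haB.map_mul (mem_sup_left hz.1) (hTB hc₀),
          ← haB.map_mul (hTB hc₀) (mem_sup_left hz.1)] at h1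
        exact haB.inj (B.mul_mem (mem_sup_left hz.1) (hTB hc₀))
          (B.mul_mem (hTB hc₀) (mem_sup_left hz.1)) h1
      obtain ⟨hzQ, hzT⟩ := h hc₀C
      obtain ⟨x, hxP, rfl⟩ := hψ.mem_img.1 hzQ
      have hxT : x ∈ T := by
        obtain ⟨k, hk, hkx, -, -⟩ := hψF.exists_inv
        have := StronglyClosed.apply_mem hsc hk hzQ hzT
        rwa [hkx x hxP] at this
      rw [← hx x hxP]
      exact hfi ▸ (hfP.mono hVP).apply_mem_img ⟨hxP, hxT⟩
    obtain ⟨k, hk, hkx, -, -⟩ := hfP.exists_inv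
    have e : img V₁ k = V := by
      rw [← hfi]
      ext y
      rw [(hk.mono (img_mono hVP)).mem_img]
      constructor
      · rintro ⟨z, hz, rfl⟩
        obtain ⟨x, hx, rfl⟩ := (hfP.mono hVP).mem_img.1 hz
        rwa [hkx x (hVP hx)]
      · exact fun hy => ⟨f y, (hfP.mono hVP).apply_mem_img hy, hkx y (hVP hy)⟩
    exact e ▸ centric_img_of_map hS hd.norm.1 (hk.mono (hfi ▸ img_mono hVP)) hc)
  have hQc : (sysD hd D).IsCentric Q := centric_of_isConj hP hψ.isConj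
  have hCS : C ≤ S := (inf_le_left : C ≤ T).trans hTS
  have hQC : Q ≤ normalizer (C : Set Ω) := CfsgLib.Comp.le_normalizer_inf
    (hQS.trans (StronglyClosed.le_normalizer hsc))
    ((CfsgLib.Comp.le_normalizer_inf Q.le_normalizer
      (hQS.trans (StronglyClosed.le_normalizer hsc))).trans
      (CfsgLib.Comp.normalizer_le_normalizer_centralizer _))
  have hlt : Q < Q ⊔ C := lt_of_le_of_ne le_sup_left fun h =>
    hnot fun c hc => ⟨h ▸ mem_sup_right hc, hc.1⟩
  have hHS : Q ⊔ C ≤ S := sup_le hQS hCS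
  haveI := finite_of_le hHS
  obtain ⟨w, hw, hwQ⟩ := SetLike.exists_of_lt (lt_normalizerIn (hS.to_le hHS) hlt)
  obtain ⟨u, hu, c, hc, rfl⟩ : ∃ u ∈ Q, ∃ c ∈ C, u * c = w := by
    have h : w ∈ ((Q ⊔ C : Subgroup Ω) : Set Ω) := hw.1
    rwa [Subgroup.coe_mul_of_left_le_normalizer_right Q C hQC, Set.mem_mul] at h
  have hcN : c ∈ normalizer (Q : Set Ω) := by
    have h := (normalizer (Q : Set Ω)).mul_mem ((normalizer (Q : Set Ω)).inv_mem
      (Q.le_normalizer hu)) hw.2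
    rwa [inv_mul_cancel_left] at h
  have hscD : (sysD hd D).StronglyClosed T :=
    CfsgLib.Comp.Fus.stronglyClosed_of_sub (sysD_sub hd D) hsc hTS
  refine ⟨Q, hψ.isConj, not_le_inn hd D hQc (A := chainAut (sysD hd D) T Q)
    (chainAut_le_pCore hS hscD hQS) ⟨hCS hc, hcN⟩ (fun h => hwQ (Q.mul_mem hu h))
    (mem_chainAut.2 ⟨autInducedBy_le_autGroup hQS
      (mem_autInducedBy_iff.2 ⟨c, hCS hc, fun _ => rfl⟩), fun y hy => Subtype.ext ?_,
      fun y => ?_⟩)⟩
  · show c * (y : Ω) * c⁻¹ = y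
    rw [← hc.2 _ ⟨y.2, hy⟩, mul_inv_cancel_right]
  · show (y : Ω)⁻¹ * (c * (y : Ω) * c⁻¹) ∈ T
    have h := StronglyClosed.conj_mem hsc (S.inv_mem (hQS y.2)) hc.1
    simpa [mul_assoc] using T.mul_mem h (T.inv_mem hc.1)

/-- The generated system is saturated. -/
theorem isSaturated_sysD : (sysD hd D).IsSaturated p := by
  refine Cfsg.Agent.S5110.result p hd.pS (sysD hd D) {P | Star E Y S P} (fun P hP => hP.1)
    (fun P hP Q hQ => ?_) (fun P hP => sat_star hd D hP) (fun G hG P φ hφ => ?_)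
    fun P hPc hP => ?_
  · obtain ⟨f, hf, rfl⟩ := isConj_iff.1 hQ
    exact star_img hd hP (isMap_sysD_of_sub hd D hf)
  · exact hφ G fun Q hQ ψ hψ => hG Q hQ fun G' hG' => hG' Q hQ hψ
  · by_cases hY : Y ≤ P
    · exact hstar_T hd D hPc hY fun h => hP ⟨hPc.1, hY, h⟩
    · exact hstar_Y hd D hPc hY

end CfsgLib.Fusion.PRE
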