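import Cfsg.Agent.Lib.Fusion.ProductRE.Key
import Cfsg.Agent.Lib.Fusion.PPowerNormal

/-!
At most one saturated subsystem over a subgroup containing `T` has the hyperfocal subgroup and the
`p`-residual of a normal subsystem over `T`.
-/

set_option autoImplicit false
set_option linter.unusedVariables false
set_option linter.unusedSectionVars false
set_option linter.style.haveILetI false

namespace CfsgLib.Fusion.PRE

open Cfsg Cfsg.FusionSystem Subgroup CfsgLib.Fusion CfsgLib.Comp.Fus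

universe u

variable {Ω : Type u} [Group Ω] {S T U V P R : Subgroup Ω} {F : FusionSystem S}
  {E : FusionSystem T} {E₁ : FusionSystem U} {p : ℕ}

theorem subgroupOf_normal (h : R ≤ normalizer (U : Set Ω)) : (U.subgroupOf R).Normal :=
  ⟨fun n hn g => (h g.2 n).1 hn⟩

variable [Fact p.Prime] [Finite S] (hS : IsPGroup p S) (hE : E.IsNormalIn F p)

include hS hE

/-- The key uniqueness property. -/
theorem key (hPS : P ≤ S)
    (hcen : ∀ V', F.IsConj (P ⊓ E.hyperfocalSubgroup p) V' →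
      centralizerIn (E.hyperfocalSubgroup p) V' ≤ V')
    {α δ : MulAut P} (hα : α ∈ F.autGroup P) (hδ : δ ∈ F.autGroup P)
    (hαc : (orderOf α).Coprime p) (hδc : (orderOf δ).Coprime p)
    (hαU : ∀ x : P, (x : Ω)⁻¹ * ((α x : P) : Ω) ∈ E.hyperfocalSubgroup p)
    (hδU : ∀ x : P, (x : Ω)⁻¹ * ((δ x : P) : Ω) ∈ E.hyperfocalSubgroup p)
    (heq : ∀ x : P, (x : Ω) ∈ E.hyperfocalSubgroup p → α x = δ x)
    (hαE : IsMap E (P ⊓ E.hyperfocalSubgroup p) (autFun α)) :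
    ∃ z ∈ P ⊓ E.hyperfocalSubgroup p,
      z ∈ centralizer ((P ⊓ E.hyperfocalSubgroup p : Subgroup Ω) : Set Ω) ∧
      ∀ x : P, ((α x : P) : Ω) = autFun δ (z * x * z⁻¹) := by
  obtain ⟨⟨hEsat, hF, hinv⟩, -⟩ := id hE
  have hUc := hyperfocal_closed hS hE
  set U := E.hyperfocalSubgroup p with hUdef
  set V := P ⊓ U with hVdef
  have hTS := hinv.2.1.1
  haveI := finite_of_le hTS
  have hVT : V ≤ T := inf_le_right.trans (hyperfocal_le E p)
  haveI := finite_of_le hPS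
  haveI : Finite V := finite_of_le (inf_le_left.trans hPS)
  obtain ⟨f, hf, hWn, hVn, hLn⟩ := exists_rep hS hF hUc hinv.2.1 hPS
  have hfV := hf.mono (inf_le_left : V ≤ P)
  have hVi : img V f = img P f ⊓ U := img_inf hUc hf
  set θ := MulAut.congr hf.equivImg with hθ
  have hθv : ∀ (β : MulAut P) (x : P), θ β (hf.equivImg x) = hf.equivImg (β x) := fun β x => by
    show hf.equivImg (β (hf.equivImg.symm (hf.equivImg x))) = _
    rw [MulEquiv.symm_apply_apply]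
  have hθf : ∀ (β : MulAut P) (x : Ω) (hx : x ∈ P),
      autFun (θ β) (f x) = f (autFun β x) := fun β x hx => by
    rw [autFun_apply _ (hf.apply_mem_img hx), autFun_apply β hx]
    exact congrArg Subtype.val (hθv β ⟨x, hx⟩)
  have hθU : ∀ β : MulAut P, (∀ x : P, (x : Ω)⁻¹ * ((β x : P) : Ω) ∈ U) →
      ∀ y : (img P f : Subgroup Ω), (y : Ω)⁻¹ * ((θ β y : (img P f : Subgroup Ω)) : Ω) ∈ U :=
    fun β hβ y => by
      obtain ⟨x, rfl⟩ := hf.equivImg.surjective y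
      rw [hθv, IsMap.coe_equivImg, IsMap.coe_equivImg, ← hf.map_inv x.2,
        ← hf.map_mul (P.inv_mem x.2) (β x).2]
      exact StronglyClosed.apply_mem hUc hf (P.mul_mem (P.inv_mem x.2) (β x).2) (hβ x)
  have hαV : ∀ x ∈ V, autFun α x ∈ V := fun x hx =>
    ⟨autFun_mem α hx.1, StronglyClosed.apply_mem hUc (isMap_autFun hPS hα) hx.1 hx.2⟩
  have hiV := img_self hαE hαV
  have hθE : IsMap E (img P f ⊓ U) (autFun (θ α)) := by
    rw [← hVi]
    have h1 := congr_mem_of_invariant hinv hfV hVT (hαE.toAut_mem hiV)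
    refine (isMap_autFun (fun y hy => ?_) h1).congr fun y hy => ?_
    · obtain ⟨x, hx, rfl⟩ := hfV.mem_img.1 hy
      exact StronglyClosed.apply_mem hinv.2.1 hfV hx (hVT hx)
    · obtain ⟨x, hx, rfl⟩ := hfV.mem_img.1 hy
      rw [hθf α x hx.1, autFun_apply _ hy,
        show (⟨f x, hy⟩ : img V f) = hfV.equivImg ⟨x, hx⟩ from rfl]
      show ((hfV.equivImg ((hαE.toAut hiV) (hfV.equivImg.symm (hfV.equivImg ⟨x, hx⟩)))
        : img V f) : Ω) = _
      rw [MulEquiv.symm_apply_apply, IsMap.coe_equivImg, IsMap.toAut_apply]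
  obtain ⟨z, hz, hzc, hzx⟩ := key_normalized hS hE hWn hVn hLn
    (hcen _ (isConj_iff.2 ⟨f, hfV, hVi⟩)) (hf.congr_mem_autGroup hα) (hf.congr_mem_autGroup hδ)
    (by rwa [MulEquiv.orderOf_eq]) (by rwa [MulEquiv.orderOf_eq]) (hθU α hαU) (hθU δ hδU)
    (fun y hy => by
      obtain ⟨x, rfl⟩ := hf.equivImg.surjective y
      have hxV : (x : Ω) ∈ V := by
        obtain ⟨u, hu, e⟩ := hfV.mem_img.1 (hVi.ge ⟨Subtype.mem _, hy⟩)
        rw [IsMap.coe_equivImg] at e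
        exact hf.inj hu.1 x.2 e ▸ hu
      rw [hθv, hθv, heq x hxV.2]) hθE
  obtain ⟨w, hw, rfl⟩ := hfV.mem_img.1 (hVi.ge hz)
  refine ⟨w, hw, hfV.mem_centralizer_of_apply le_rfl hw (by rw [hVi]; exact hzc), fun x => ?_⟩
  have hwx : w * (x : Ω) * w⁻¹ ∈ P := P.mul_mem (P.mul_mem hw.1 x.2) (P.inv_mem hw.1)
  refine hf.inj (α x).2 (autFun_mem δ hwx) ?_
  have h1 := hzx (hf.equivImg x)
  rw [hθv, IsMap.coe_equivImg, IsMap.coe_equivImg, ← hf.map_conj hw.1 x.2, hθf δ _ hwx] at h1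
  exact h1

theorem key_of_eq (hU : U = E.hyperfocalSubgroup p) (hPS : P ≤ S)
    (hcen : ∀ V', F.IsConj (P ⊓ U) V' → centralizerIn U V' ≤ V')
    {α δ : MulAut P} (hα : α ∈ F.autGroup P) (hδ : δ ∈ F.autGroup P)
    (hαc : (orderOf α).Coprime p) (hδc : (orderOf δ).Coprime p)
    (hαU : ∀ x : P, (x : Ω)⁻¹ * ((α x : P) : Ω) ∈ U)
    (hδU : ∀ x : P, (x : Ω)⁻¹ * ((δ x : P) : Ω) ∈ U)
    (heq : ∀ x : P, (x : Ω) ∈ U → α x = δ x) (hαE : IsMap E (P ⊓ U) (autFun α)) :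
    ∃ z ∈ P ⊓ U, z ∈ centralizer ((P ⊓ U : Subgroup Ω) : Set Ω) ∧
      ∀ x : P, ((α x : P) : Ω) = autFun δ (z * x * z⁻¹) := by
  subst hU
  exact key hS hE hPS hcen hα hδ hαc hδc hαU hδU heq hαE

theorem centralizerIn_le_of_centric (hU : U = E.hyperfocalSubgroup p) (hE₁ : E₁.IsSaturated p)
    (hE₁i : E₁.HasPPowerIndexIn E p) (hV : E₁.IsCentric V) :
    ∀ V', F.IsConj V V' → centralizerIn U V' ≤ V' := by
  subst hU
  obtain ⟨⟨hEsat, hF, hinv⟩, -⟩ := id hE
  obtain ⟨hsub, hsc, -, hfrat⟩ := isInvariantIn_iff.1 hinv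
  have hUc := hyperfocal_closed hS hE
  set U := E.hyperfocalSubgroup p with hUdef
  have hTS := hsc.1
  haveI := finite_of_le hTS
  have hTp := hS.to_le hTS
  have hUT : U ≤ T := hyperfocal_le E p
  have hN := isNormalIn_of_pPower hTp hEsat hUT
    (subgroupOf_normal (le_normalizer_hyperfocal E p)) hE₁ hE₁i
  intro V' hV'
  obtain ⟨f, hf, rfl⟩ := isConj_iff.1 hV'
  obtain ⟨a, ha, e, he, hfx⟩ := hfrat V f (hV.1.trans hUT) hf
  have hc := centric_img_of_map hTp hN.1 he hV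
  have heV : img V e ≤ U := hc.1
  intro x hx
  obtain ⟨y, hy, rfl⟩ := ((ha.mono hUT).mem_img).1
    ((StronglyClosed.img_eq hUc ha hUT).ge hx.1)
  have hy' : y ∈ img V e := hc.2 _ (isConj_refl heV) ⟨hy, fun u hu => by
    obtain ⟨v, hv, rfl⟩ := he.mem_img.1 hu
    refine ha.inj (T.mul_mem (he.mem hv) (hUT hy)) (T.mul_mem (hUT hy) (he.mem hv)) ?_
    rw [ha.map_mul (he.mem hv) (hUT hy), ha.map_mul (hUT hy) (he.mem hv), ← hfx v hv]
    exact hx.2 _ (hf.apply_mem_img hv)⟩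
  obtain ⟨v, hv, rfl⟩ := he.mem_img.1 hy'
  rw [← hfx v hv]
  exact hf.apply_mem_img hv

/-- Of two saturated subsystems over `R` with the hyperfocal subgroup and the residual of `E`, the
first is contained in the second. -/
theorem le_of_solutions (hU : U = E.hyperfocalSubgroup p) (hE₁ : E₁.IsSaturated p)
    (hE₁i : E₁.HasPPowerIndexIn E p) (hR : R ≤ S) {D D' : FusionSystem R}
    (hD : D.IsSaturated p) (hDF : D.IsSubsystemOf F) (hDh : D.hyperfocalSubgroup p = U)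
    (hDi : E₁.HasPPowerIndexIn D p)
    (hD' : D'.IsSaturated p) (hD'F : D'.IsSubsystemOf F) (hD'h : D'.hyperfocalSubgroup p = U)
    (hD'i : E₁.HasPPowerIndexIn D' p) : D ≤ D' := by
  obtain ⟨⟨hEsat, hF, hinv⟩, -⟩ := id hE
  have hUc : F.StronglyClosed U := hU ▸ hyperfocal_closed hS hE
  haveI := finite_of_le hR
  have hRp := hS.to_le hR
  have hUR : U ≤ R := hDh ▸ hyperfocal_le D p
  have hUS := hUR.trans hR
  haveI := finite_of_le hUS
  have hRn := subgroupOf_normal (R := R) (hR.trans (StronglyClosed.le_normalizer hUc))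
  have hN := isNormalIn_of_pPower hRp hD hUR hRn hE₁ hDi
  have hN' := isNormalIn_of_pPower hRp hD' hUR hRn hE₁ hD'i
  refine alperin hRp hD fun P hP => ?_
  have hPn : D.IsFullyNormalized P :=
    hP.elim (fun e => e ▸ fullyNormalized_top D) fun e => e.2.1
  have hPR := hPn.1
  have hPS := hPR.trans hR
  haveI := finite_of_le hPR
  set V := P ⊓ U with hVdef
  have hVc : E₁.IsCentric V := by
    rcases hP with e | e
    · have hVe : V = U := by rw [hVdef, e]; exact inf_eq_right.2 hUR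
      rw [hVe]
      exact centric_top (hS.to_le hUS) hE₁
    · by_contra hne
      exact not_radical hRp hN.1 e.1 hne (essential_isRadical hRp hD e)
  obtain ⟨Sy, hSy⟩ := (fullyAutomized_of_fullyNormalized hRp hD hPn).2
  refine Subgroup.subgroupOf_eq_top.1 (eq_top_of_sylow_le Sy ?_ fun b hb => ?_)
  · rw [hSy]
    exact Subgroup.comap_mono (autInducedBy_le_autGroup hPR)
  -- an automorphism of order prime to `p`
  obtain ⟨α, hαD⟩ := b
  rw [Subgroup.orderOf_mk] at hb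
  rw [Subgroup.mem_subgroupOf]
  show α ∈ D'.autGroup P
  have hαF : α ∈ F.autGroup P :=
    (autGroup_mem_iff hPS).2 (hDF P ((autGroup_mem_iff hPR).1 hαD))
  have hαm := isMap_autFun hPR hαD
  have hαU : ∀ x : P, (x : Ω)⁻¹ * ((α x : P) : Ω) ∈ U := fun x =>
    hDh ▸ sub_mem_hyperfocal_of_coprime hPR hαD hb x
  haveI : Finite V := finite_of_le (inf_le_left.trans hPR)
  have hmV := hαm.mono (inf_le_left : V ≤ P)
  have hiV := img_self hmV fun x hx => ⟨autFun_mem α hx.1, StronglyClosed.apply_mem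
    hUc (isMap_autFun hPS hαF) hx.1 hx.2⟩
  set αV := hmV.toAut hiV with hαVdef
  have hVcop : (orderOf αV).Coprime p :=
    coprime_toAut hb inf_le_left hmV hiV fun _ _ => rfl
  have hV1 : αV ∈ E₁.autGroup V :=
    hDi.2.2 V inf_le_right ⟨⟨αV, hmV.toAut_mem hiV⟩,
      CfsgLib.Transfer.mem_pResidual_of_coprime (by rwa [Subgroup.orderOf_mk]), rfl⟩
  have hVm : IsMap E₁ V (autFun α) :=
    (isMap_autFun inf_le_right hV1).congr fun x hx => by
      rw [autFun_apply _ hx, IsMap.toAut_apply]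
  have hVD' : IsMap D' V (autFun α) := isSubsystemOf_iff.1 hD'i.1 V _ hVm
  have hVE : IsMap E V (autFun α) := isSubsystemOf_iff.1 hE₁i.1 V _ hVm
  -- transport to a fully normalized conjugate of `V` in the second system
  obtain ⟨Q, hQ, hQn⟩ := exists_fullyNormalized_conj D' (inf_le_left.trans hPR : V ≤ R)
  obtain ⟨ψ, hψ, hψi, -⟩ := exists_map_normalizerIn_of_fullyNormalized hRp hD' hQn hQ
  have hPN : P ≤ normalizerIn R V := fun a ha => ⟨hPR ha,
    CfsgLib.Comp.le_normalizer_inf (M := P) Subgroup.le_normalizer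
      (hPS.trans (StronglyClosed.le_normalizer hUc)) ha⟩
  have hVN : V ≤ normalizerIn R V := inf_le_left.trans hPN
  have hψP := hψ.mono hPN
  have hψV := hψ.mono hVN
  obtain ⟨k, hk, hkx, hky, -⟩ := hψV.exists_inv
  rw [hψi] at hk hky
  set β : Ω → Ω := fun y => ψ (autFun α (k y)) with hβdef
  have hβ : IsMap D' Q β :=
    (hk.comp hVD' fun y hy => (hky y hy).1).comp hψV fun y hy =>
      hiV.le (hmV.apply_mem_img (hky y hy).1)
  have hQR : Q ≤ R := hQn.1
  haveI := finite_of_le hQR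
  have hβQ : ∀ y ∈ Q, β y ∈ Q := fun y hy =>
    hψi.le (hψV.apply_mem_img (hiV.le (hmV.apply_mem_img (hky y hy).1)))
  have hβi := img_self hβ hβQ
  have hβv : ∀ v ∈ V, β (ψ v) = ψ (autFun α v) := fun v hv => by
    show ψ (autFun α (k (ψ v))) = _
    rw [hkx v hv]
  have hβit : ∀ (i : ℕ) (v : Ω) (hv : v ∈ P), v ∈ V →
      β^[i] (ψ v) = ψ ((autFun α)^[i] v) := fun i => by
    induction i with
    | zero => intro v hv hvV; rfl
    | succ i ih =>
      intro v hv hvV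
      rw [Function.iterate_succ_apply', ih v hv hvV, Function.iterate_succ_apply', hβv]
      exact iterate_mem (fun x hx => hiV.le (hmV.apply_mem_img hx)) i hvV
  have hβc : (orderOf (hβ.toAut hβi)).Coprime p := by
    refine coprime_toAut_of_periodic hβ hβi hb fun y hy => ?_
    obtain ⟨v, hv, rfl⟩ := hψV.mem_img.1 (hψi.ge hy)
    rw [hβit _ v hv.1 hv, autFun_pow α _ ⟨v, hv.1⟩, pow_orderOf_eq_one]
    rfl
  set Q₁ := img P ψ with hQ₁
  have hQQ₁ : Q ≤ Q₁ := hψi ▸ img_mono inf_le_left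
  have hQ₁R : Q₁ ≤ R := hψP.img_le
  have hQ₁n : ∀ n ∈ P, ψ n ∈ normalizer (Q : Set Ω) := fun n hn => by
    have h := (hψ.apply_mem_normalizerIn hVN (hPN hn) (hPN hn).2).2
    rwa [hψi] at h
  set C := centralizerIn R Q with hCdef
  set W := Q₁ ⊔ C with hWdef
  have hconj : ∀ n ∈ P, ∀ y ∈ Q,
      β (ψ n * y * (ψ n)⁻¹) = ψ (autFun α n) * β y * (ψ (autFun α n))⁻¹ := by
    intro n hn y hy
    obtain ⟨v, hv, rfl⟩ := hψV.mem_img.1 (hψi.ge hy)
    have hnv : n * v * n⁻¹ ∈ V := ((hPN hn).2 v).1 hv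
    have hv' : autFun α v ∈ V := hiV.le (hmV.apply_mem_img hv)
    rw [← hψ.map_conj (hPN hn) (hVN hv), hβv _ hnv, hβv v hv, hαm.map_conj hn hv.1,
      hψ.map_conj (hPN (autFun_mem α hn)) (hVN hv')]
  obtain ⟨h₀, hh₀, hh₀x⟩ := receptive_extend
    (receptive_of_fullyNormalized hRp hD' hQn) hβ hβi (hQQ₁.trans le_sup_left : Q ≤ W) (by
      have hle : W ≤ extender R Q hβ.toHom := sup_le (fun y hy => by
        obtain ⟨n, hn, rfl⟩ := hψP.mem_img.1 hy
        exact (mem_extender_iff hβ fun _ => rfl).2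
          ⟨hψP.mem hn, hQ₁n n hn, _, hψP.mem (autFun_mem α hn), hconj n hn⟩)
        (le_sup_right.trans (sup_centralizerIn_le_extender hβ fun _ => rfl))
      exact fun m hm => (mem_extender_iff hβ fun _ => rfl).1 (hle hm))
  have hext : ∀ h : Ω → Ω, IsMap D' W h → (∀ y ∈ Q, h y = β y) →
      ∀ n ∈ P, (ψ (autFun α n))⁻¹ * h (ψ n) ∈ C := by
    intro h hh hhx n hn
    refine ⟨R.mul_mem (R.inv_mem (hψP.mem (autFun_mem α hn)))
      (hh.mem (mem_sup_left (hψP.apply_mem_img hn))), fun y hy => ?_⟩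
    obtain ⟨x, hx, rfl⟩ := hβ.mem_img.1 (hβi.ge hy)
    have h1 := hh.map_conj (mem_sup_left (hψP.apply_mem_img hn) : ψ n ∈ W)
      (mem_sup_left (hQQ₁ hx))
    rw [hhx _ ((hQ₁n n hn x).1 hx), hhx x hx, hconj n hn x hx] at h1
    set m := ψ (autFun α n)
    calc β x * (m⁻¹ * h (ψ n)) = m⁻¹ * (m * β x * m⁻¹) * h (ψ n) := by group
      _ = m⁻¹ * (h (ψ n) * β x * (h (ψ n))⁻¹) * h (ψ n) := by rw [h1]
      _ = m⁻¹ * h (ψ n) * β x := by group
  have hh₀W : ∀ x ∈ W, h₀ x ∈ W := fun x hx => by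
    refine hh₀.img_sup_le le_sup_left le_sup_right ?_ ?_ (hh₀.apply_mem_img hx)
    · intro y hy
      obtain ⟨u, hu, rfl⟩ := (hh₀.mono le_sup_left).mem_img.1 hy
      obtain ⟨n, hn, rfl⟩ := hψP.mem_img.1 hu
      simpa using W.mul_mem (mem_sup_left (hψP.apply_mem_img (autFun_mem α hn)))
        (mem_sup_right (hext h₀ hh₀ hh₀x n hn))
    · intro y hy
      obtain ⟨c, hc, rfl⟩ := (hh₀.mono le_sup_right).mem_img.1 hy
      have h1 := hh₀.apply_mem_centralizerIn (hQQ₁.trans le_sup_left : Q ≤ W)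
        (mem_sup_right hc) hc.2
      rw [(img_congr hh₀x).trans hβi] at h1
      exact mem_sup_right h1
  obtain ⟨i, m, hm, hi1, hper⟩ := exists_coprime_power hh₀ hh₀W (hQQ₁.trans le_sup_left) hβc
    fun x => (hh₀x x x.2).trans (IsMap.toAut_apply hβ hβi x).symm
  set h := h₀^[i] with hhdef
  have hh : IsMap D' W h := isMap_iterate hh₀ hh₀W i
  have hhW : ∀ x ∈ W, h x ∈ W := fun x hx => iterate_mem hh₀W i hx
  have hhx : ∀ y ∈ Q, h y = β y := fun y hy =>
    (hi1 ⟨y, hy⟩).trans (IsMap.toAut_apply hβ hβi ⟨y, hy⟩)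
  have hWR : W ≤ R := hh.le
  haveI := finite_of_le hWR
  have hWi := img_self hh hhW
  have hhc := coprime_toAut_of_periodic hh hWi hm hper
  have hcen := centralizerIn_le_of_centric hS hE hU hE₁ hE₁i hVc
  have hQU : Q ≤ U := hψi ▸ fun y hy => by
    obtain ⟨v, hv, rfl⟩ := hψV.mem_img.1 hy
    exact StronglyClosed.apply_mem hUc (isSubsystemOf_iff.1 hD'F _ _ hψV) hv hv.2
  have hCQ : centralizerIn U Q ≤ Q :=
    hcen Q (hψi ▸ (isSubsystemOf_iff.1 hD'F _ _ hψV).isConj)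
  have hhP : ∀ n ∈ P, ∃ q ∈ Q, h (ψ n) = ψ (autFun α n) * q := by
    intro n hn
    refine ⟨_, hCQ ⟨?_, (hext h hh hhx n hn).2⟩, (mul_inv_cancel_left _ _).symm⟩
    have hψn : ψ n ∈ W := mem_sup_left (hψP.apply_mem_img hn)
    have h1 : (ψ n)⁻¹ * h (ψ n) ∈ U := by
      have h2 := sub_mem_hyperfocal_of_coprime hWR (hh.toAut_mem hWi) hhc ⟨ψ n, hψn⟩
      rw [IsMap.toAut_apply, hD'h] at h2
      exact h2
    have h3 : (ψ n)⁻¹ * ψ (autFun α n) ∈ U := by
      rw [← hψP.map_inv hn, ← hψP.map_mul (P.inv_mem hn) (autFun_mem α hn)]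
      refine StronglyClosed.apply_mem hUc (isSubsystemOf_iff.1 hD'F _ _ hψP)
        (P.mul_mem (P.inv_mem hn) (autFun_mem α hn)) ?_
      rw [autFun_apply α hn]
      exact hαU ⟨n, hn⟩
    rw [show (ψ (autFun α n))⁻¹ * h (ψ n) =
      ((ψ n)⁻¹ * ψ (autFun α n))⁻¹ * ((ψ n)⁻¹ * h (ψ n)) by group]
    exact U.mul_mem (U.inv_mem h3) h1
  obtain ⟨j, hj, hjx, hjy, -⟩ := hψP.exists_inv
  have hhQ₁ : ∀ n ∈ P, h (ψ n) ∈ Q₁ := fun n hn => by
    obtain ⟨q, hq, e⟩ := hhP n hn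
    rw [e]
    exact Q₁.mul_mem (hψP.apply_mem_img (autFun_mem α hn)) (hQQ₁ hq)
  set δ₀ : Ω → Ω := fun x => j (h (ψ x)) with hδ₀
  have hδm : IsMap D' P δ₀ :=
    (hψP.comp hh fun x hx => mem_sup_left (hψP.apply_mem_img hx)).comp hj hhQ₁
  have hδP : ∀ x ∈ P, δ₀ x ∈ P := fun x hx => (hjy _ (hhQ₁ x hx)).1
  have hδi := img_self hδm hδP
  set δ := hδm.toAut hδi with hδdef
  have hδc : (orderOf δ).Coprime p := by
    refine coprime_toAut_of_periodic hδm hδi hm fun x hx => ?_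
    have hit : ∀ l : ℕ, ψ (δ₀^[l] x) = h^[l] (ψ x) ∧ δ₀^[l] x ∈ P := by
      intro l
      induction l with
      | zero => exact ⟨rfl, hx⟩
      | succ l ih =>
        rw [Function.iterate_succ_apply', Function.iterate_succ_apply']
        exact ⟨by rw [← ih.1]; exact (hjy _ (hhQ₁ _ ih.2)).2, hδP _ ih.2⟩
    refine hψP.inj (hit m).2 hx ?_
    rw [(hit m).1, hper _ (mem_sup_left (hψP.apply_mem_img hx))]
  have hδD := hδm.toAut_mem hδi
  have hδF : δ ∈ F.autGroup P := (autGroup_mem_iff hPS).2 (hD'F P ((autGroup_mem_iff hPR).1 hδD))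
  obtain ⟨z, hz, -, hzx⟩ := key_of_eq hS hE hU hPS hcen hαF hδF hb hδc hαU
    (fun x => hD'h ▸ sub_mem_hyperfocal_of_coprime hPR hδD hδc x) (fun x hx => Subtype.ext (by
      rw [IsMap.toAut_apply]
      show ((α x : P) : Ω) = j (h (ψ x))
      rw [hhx (ψ x) (hψi.le (hψV.apply_mem_img ⟨x.2, hx⟩)), hβv _ ⟨x.2, hx⟩,
        hjx _ (autFun_mem α x.2), autFun_apply α x.2])) hVE
  exact (autGroup_iff_isMap hPR hzx).2
    ((isMap_conj D' hPR (hPR hz.1)).comp (isMap_autFun hPR hδD)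
      fun x hx => P.mul_mem (P.mul_mem hz.1 hx) (P.inv_mem hz.1))

end CfsgLib.Fusion.PRE
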