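import Cfsg.Agent.Lib.Fusion.ProductRE.Residual
import Cfsg.Agent.Lib.Fusion.ProductRE.Unique
import Cfsg.Agent.Lib.Fusion.PPowerIndex
import Cfsg.Agent.Lib.Comp.ResidualLimit

/-!
The product of a normal subsystem with a subgroup containing its base.
-/

set_option autoImplicit false
set_option linter.unusedVariables false
set_option linter.unusedSectionVars false
set_option linter.style.haveILetI false

universe u

namespace CfsgLib.Fusion.PRE

open Cfsg Cfsg.FusionSystem Subgroup CfsgLib.Fusion CfsgLib.Comp.Fus CfsgLib.Comp.EBal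

variable {Ω : Type u} [Group Ω] {S T R U U₁ : Subgroup Ω} {F : FusionSystem S}
  {E : FusionSystem T} {p : ℕ} [Fact p.Prime] [Finite S]

/-- Residuals over two names of one subgroup have the same maps. -/
theorem residual_hom_eq {D : FusionSystem R} {D₁ : FusionSystem U} {E₁ : FusionSystem U₁}
    (hS : IsPGroup p S) (hR : R ≤ S) (hU : U = U₁) (hUR : U ≤ R) (hD₁ : D₁.IsSaturated p)
    (hD₁i : D₁.HasPPowerIndexIn D p) (hE₁ : E₁.IsSaturated p)
    (hE₁i : E₁.HasPPowerIndexIn D p) (P : Subgroup Ω) : D₁.Hom P = E₁.Hom P := by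
  subst hU
  haveI := finite_of_le hR
  rw [CfsgLib.Comp.Fus.pPowerIndex_unique (hS.to_le hR) hUR hD₁ hE₁ hD₁i hE₁i]

/-- Equal maps carry the index condition. -/
theorem index_of_hom_eq {D : FusionSystem R} {D₁ : FusionSystem U} {E₁ : FusionSystem U₁}
    (hU : U = U₁) (h : ∀ P : Subgroup Ω, D₁.Hom P = E₁.Hom P)
    (hD₁i : D₁.HasPPowerIndexIn D p) : E₁.HasPPowerIndexIn D p := by
  subst hU
  rwa [← SameMaps.eq (h : SameMaps D₁ E₁)]

variable (hS : IsPGroup p S) (hE : E.IsNormalIn F p)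

include hS hE

/-- The product of a normal subsystem with a subgroup containing its base exists. -/
theorem exists_product (hTR : T ≤ R) (hRS : R ≤ S) {E₁ : FusionSystem U}
    (hU : U = E.hyperfocalSubgroup p) (hE₁ : E₁.IsSaturated p)
    (hE₁i : E₁.HasPPowerIndexIn E p) :
    ∃ D : FusionSystem R, D.IsSaturated p ∧ D.IsSubsystemOf F ∧
      D.hyperfocalSubgroup p = U ∧ E₁.HasPPowerIndexIn D p := by
  obtain ⟨T', Y, E', hd⟩ := exists_data hS hE
  obtain ⟨M⟩ := exists_topData (p := p) hd.ctx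
  have hh := hyperfocal_sysD hd M
  have hUT : U ≤ T := hU ▸ hyperfocal_le E p
  have hUR := hUT.trans hTR
  haveI := finite_of_le hRS
  haveI := finite_of_le (hUR.trans hRS)
  obtain ⟨D, hD, hDi⟩ := CfsgLib.Fusion.exists_pPowerIndex (p := p) (Nat.card S) S hS _
    (isSaturated_sysD hd M) R hRS (hh.le.trans (hU.ge.trans hUR)) (by omega)
  have hDh : D.hyperfocalSubgroup p = U := by
    rw [hU]
    refine le_antisymm ((hyperfocal_le_of _ fun P hP α hα hc x => ?_).trans hh.le)
      (hyperfocal_le_of _ fun P hP α hα hc x => ?_)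
    · exact sub_mem_hyperfocal_of_coprime (hP.trans hRS) ((autGroup_mem_iff (hP.trans hRS)).2
        (hDi.1 P ((autGroup_mem_iff hP).1 hα))) hc x
    · exact sub_mem_hyperfocal_of_coprime (hP.trans hTR)
        (CfsgLib.Comp.Fus.coprime_mem_autGroup hDi (hP.trans hTR)
          ((autGroup_mem_iff (hP.trans (hd.leT))).2
            (E_sub_sysD hd M P ((autGroup_mem_iff hP).1 hα))) hc) hc x
  have hi := index_sysD hd M hU hE₁i
  have hle : E₁ ≤ subgroupSys D hUR := by
    refine le_of_coprime_aut (hS.to_le (hUR.trans hRS)) hE₁ fun P hP α hα hc => ?_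
    have h1 : α ∈ D.autGroup P := CfsgLib.Comp.Fus.coprime_mem_autGroup hDi (hP.trans hUR)
      ((autGroup_mem_iff (hP.trans (hUR.trans hRS))).2
        (hi.1 P ((autGroup_mem_iff hP).1 hα))) hc
    exact (autGroup_mem_iff hP).2 ⟨(autGroup_mem_iff (hP.trans hUR)).1 h1, hP,
      fun x => hP (α x).2⟩
  refine ⟨D, hD, fun P φ h => sysD_sub hd M P (hDi.1 P h), hDh,
    ⟨fun P φ h => (hle P h).1, hDh.le, fun P hP => ?_⟩⟩
  rw [Subgroup.map_le_iff_le_comap]
  refine (Subgroup.closure_le _).2 ?_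
  rintro ⟨α, hα⟩ hc
  have hc' : (orderOf α).Coprime p := by
    rw [← Subgroup.orderOf_mk α hα]; exact hc
  exact CfsgLib.Comp.Fus.coprime_mem_autGroup hi hP
    ((autGroup_mem_iff (hP.trans (hUR.trans hRS))).2
      (hDi.1 P ((autGroup_mem_iff (hP.trans hUR)).1 hα))) hc'

end CfsgLib.Fusion.PRE
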