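import Cfsg.Agent.Lib.Fusion.ProductRE.Outside
import Cfsg.Agent.Lib.Fusion.PPowerNormal
import Cfsg.Agent.Lib.Fusion.ResidualSystem
import Cfsg.Agent.Lib.Comp.ResidualLimit

/-!
The generated system over `S` has the hyperfocal subgroup and the residual of `E`.
-/

set_option autoImplicit false
set_option linter.unusedVariables false
set_option linter.unusedSectionVars false
set_option linter.style.haveILetI false

universe u

namespace CfsgLib.Fusion.PRE

open Cfsg Cfsg.FusionSystem Subgroup CfsgLib.Fusion CfsgLib.Comp.Fus CfsgLib.Comp.EBal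

variable {Ω : Type u} [Group Ω] {S T T' Y : Subgroup Ω} {F : FusionSystem S}
  {E : FusionSystem T} {E' : FusionSystem T'} {p : ℕ} {P Q R : Subgroup Ω} {f g : Ω → Ω}

variable [Fact p.Prime]

/-- An exponent fixing an automorphism of order prime to `p` and killing a `p`-element. -/
theorem exists_kill_exponent [Finite S] (hS : IsPGroup p S) {α : MulAut P}
    (hα : (orderOf α).Coprime p) {s : Ω} (hs : s ∈ S) : ∃ i : ℕ, α ^ i = α ∧ s ^ i = 1 := by
  obtain ⟨k, hk⟩ := hS ⟨s, hs⟩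
  have hk' : s ^ p ^ k = 1 := congrArg Subtype.val hk
  obtain ⟨i, hi1, hi0⟩ := Nat.chineseRemainder (hα.pow_right k) 1 0
  obtain ⟨q, rfl⟩ := Nat.modEq_zero_iff_dvd.1 hi0
  refine ⟨p ^ k * q, ?_, by rw [pow_mul, hk', one_pow]⟩
  conv_rhs => rw [← pow_one α]
  exact pow_eq_pow_iff_modEq.2 hi1

variable [Finite S] (hd : Data F E E' Y p) (D : TopData F E' p)

include hd

/-! ### The maps of `E` -/

/-- The automorphisms of order prime to `p` of the centric subgroups of `E` lie in the system. -/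
theorem coprime_centric_mem (hR : E.IsCentric R) {α : MulAut R} (hα : α ∈ E.autGroup R)
    (hc : (orderOf α).Coprime p) : IsMap (sysD hd D) R (autFun α) := by
  have hRT := hR.1
  have hRS := hRT.trans hd.leT
  haveI := finite_of_le hd.leY
  obtain ⟨g, hg, hgx, hgy⟩ := hd.ext R _ (isMap_autFun hRT hα)
  set R' := R ⊔ Y with hR'
  have hR'T : R' ≤ T' := sup_le (hRT.trans hd.T_le) hd.Y_le
  have hR'S : R' ≤ S := sup_le hRS hd.leY
  haveI := finite_of_le hR'S
  have hsplit : ∀ z ∈ R', ∃ r ∈ R, ∃ y ∈ Y, r * y = z ∧ g z = autFun α r * y := fun z hz => by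
    obtain ⟨r, hr, y, hy, rfl⟩ := CfsgLib.Comp.CProd.exists_split
      (fun r hr y hy => hd.commute (hRT hr) hy) hz
    exact ⟨r, hr, y, hy, rfl, by
      rw [hg.map_mul (mem_sup_left hr) (mem_sup_right hy), hgx r hr, hgy y hy]⟩
  have hgR : ∀ z ∈ R', g z ∈ R' := fun z hz => by
    obtain ⟨r, hr, y, hy, -, e⟩ := hsplit z hz
    exact e ▸ R'.mul_mem (mem_sup_left (autFun_mem α hr)) (mem_sup_right hy)
  have hgF : IsMap F R' g := isSubsystemOf_iff.1 hd.ctx.normal.1.2.2.1 _ _ hg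
  have hgi := img_self hgF hgR
  have hit : ∀ (i : ℕ) (z : Ω), z ∈ R' → ∀ r ∈ R, ∀ y ∈ Y, r * y = z →
      g^[i] z = (autFun α)^[i] r * y := fun i => by
    induction i with
    | zero => intro z hz r hr y hy e; exact e.symm
    | succ i ih =>
      intro z hz r hr y hy e
      rw [Function.iterate_succ_apply', Function.iterate_succ_apply', ih z hz r hr y hy e]
      have hr' : (autFun α)^[i] r ∈ R := iterate_mem (fun x hx => autFun_mem α hx) i hr
      rw [hg.map_mul (mem_sup_left hr') (mem_sup_right hy), hgx _ hr', hgy y hy]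
  have hβc : (orderOf (hgF.toAut hgi)).Coprime p :=
    coprime_toAut_of_periodic hgF hgi hc fun z hz => by
      obtain ⟨r, hr, y, hy, e, -⟩ := hsplit z hz
      rw [hit _ z hz r hr y hy e, autFun_pow α _ ⟨r, hr⟩, pow_orderOf_eq_one]
      exact e
  have hstar : Star E Y S R' :=
    ⟨hR'S, le_sup_right, centric_of_le hR (le_inf le_sup_left hRT) inf_le_right⟩
  have hβx : ∀ z ∈ R', autFun (hgF.toAut hgi) z = g z := fun z hz => by
    rw [autFun_apply _ hz, IsMap.toAut_apply]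
  have hce : E'.IsCentric R' := ⟨hR'T, fun Q hQ x hx => by
    obtain ⟨k, hk, rfl⟩ := isConj_iff.1 hQ
    refine (star_inC hd hstar).2 _ (isConj_iff.2 ⟨k,
      isSubsystemOf_iff.1 hd.ctx.normal.1.2.2.1 _ _ hk, rfl⟩) ?_
    exact hx⟩
  have hth : D.Th R' g 1 := TopData.Th.pure hR'S le_rfl (hgF.toAut_mem hgi) hβc
    (fun z hz => by
      rw [hβx z hz]
      exact T'.mul_mem (T'.inv_mem (hR'T hz)) (hR'T (hgR z hz)))
    (by rwa [inf_eq_left.2 hR'T])
    (by
      rw [inf_eq_left.2 hR'T]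
      exact hg.congr fun z hz => (hβx z hz).symm)
    fun z hz => (hβx z hz).symm
  have hl : Lift E Y D R' g 1 := ⟨hstar, by rw [QuotientGroup.mk_one]; exact hth,
    fun y hy => by rw [hgy y hy, one_mul, inv_one, mul_one]⟩
  exact ((isMap_sysD_of_L₀ hd D hl (one_mem _)).mono le_sup_left).congr fun x hx => hgx x hx

/-- Every map of `E` is a map of the system. -/
theorem E_sub_sysD : E.IsSubsystemOf (sysD hd D) := by
  haveI := finite_of_le hd.leT
  have hTp := hd.pS.to_le hd.leT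
  have hEs : E.IsSaturated p := hd.norm.1.1
  have hle : E ≤ subgroupSys (sysD hd D) hd.leT := by
    refine alperin hTp hEs fun R hR => ?_
    have hRc : E.IsCentric R := by
      rcases hR with rfl | hR
      · exact centric_top hTp hEs
      · exact hR.1
    have hRn : E.IsFullyNormalized R :=
      hR.elim (fun e => e ▸ fullyNormalized_top E) fun e => e.2.1
    haveI := finite_of_le hRc.1
    obtain ⟨W, hW⟩ := (fullyAutomized_of_fullyNormalized hTp hEs hRn).2
    refine Subgroup.subgroupOf_eq_top.1 (eq_top_of_sylow_le W ?_ fun x hx => ?_)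
    · rw [hW]
      exact Subgroup.comap_mono (autInducedBy_le_autGroup hRc.1)
    · have h1 := coprime_centric_mem hd D hRc x.2 (by rwa [Subgroup.orderOf_coe])
      exact (autGroup_iff_isMap hRc.1 fun y => (autFun_apply _ y.2).symm).2
        ⟨h1.toHom, ⟨h1.toHom_mem, hRc.1, fun y => hRc.1 (autFun_mem _ y.2)⟩, fun _ => rfl⟩
  exact fun P φ hφ => (hle P hφ).1

/-! ### Radical subgroups of the system -/

/-- The centric radical subgroups of the system belong to the family. -/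
theorem star_of_radical (hc : (sysD hd D).IsCentric P) (hr : (sysD hd D).IsRadical p P) :
    Star E Y S P := by
  by_contra hP
  obtain ⟨Q, hQ, hn⟩ : ∃ Q, (sysD hd D).IsConj P Q ∧
      ¬ (autInducedBy S Q ⊓ (pCore p ((sysD hd D).autGroup Q)).map
        ((sysD hd D).autGroup Q).subtype ≤ Inn Q) := by
    by_cases hY : Y ≤ P
    · exact hstar_T hd D hc hY fun h => hP ⟨hc.1, hY, h⟩
    · exact hstar_Y hd D hc hY
  obtain ⟨f, hf, rfl⟩ := isConj_iff.1 hQ
  haveI := finite_of_le hc.1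
  refine hn fun δ hδ => ?_
  obtain ⟨⟨δ', hδ'⟩, hδc, hδe⟩ := hδ.2
  change δ' = δ at hδe
  subst hδe
  set θ := MulAut.congr hf.equivImg
  have hback : ∀ γ ∈ (sysD hd D).autGroup (img P f), θ.symm γ ∈ (sysD hd D).autGroup P :=
    fun γ hγ => hf.congr_symm_mem_autGroup hγ
  let ρ : (sysD hd D).autGroup (img P f) →* (sysD hd D).autGroup P :=
    (θ.symm.toMonoidHom.comp ((sysD hd D).autGroup (img P f)).subtype).codRestrict _
      fun γ => hback γ γ.2
  have hρ : Function.Surjective ρ := fun γ =>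
    ⟨⟨θ (γ : MulAut P), hf.congr_mem_autGroup γ.2⟩, Subtype.ext (θ.symm_apply_apply _)⟩
  have hcore : (pCore p ((sysD hd D).autGroup (img P f))).map ρ ≤
      pCore p ((sysD hd D).autGroup P) := by
    rw [pCore, Subgroup.map_le_iff_le_comap]
    refine sSup_le fun N hN => ?_
    rw [← Subgroup.map_le_iff_le_comap]
    haveI := hN.1
    exact le_sSup ⟨hN.1.map ρ hρ, hN.2.map ρ⟩
  have h1 : θ.symm δ' ∈ Inn P := by
    rw [← hr.2]
    exact ⟨ρ ⟨δ', hδ'⟩, hcore ⟨_, hδc, rfl⟩, rfl⟩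
  obtain ⟨q, hq⟩ := h1
  refine ⟨hf.equivImg q, MulEquiv.ext fun y => ?_⟩
  obtain ⟨x, rfl⟩ := hf.equivImg.surjective y
  have h2 : θ.symm δ' x = q * x * q⁻¹ := by rw [← hq]; rfl
  show hf.equivImg q * hf.equivImg x * (hf.equivImg q)⁻¹ = δ' (hf.equivImg x)
  rw [← map_inv, ← map_mul, ← map_mul, ← h2]
  show hf.equivImg (hf.equivImg.symm (δ' (hf.equivImg x))) = _
  rw [MulEquiv.apply_symm_apply]

/-- The automorphisms of order prime to `p` of the subgroups of the family move their elements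
inside `U`. -/
theorem sub_mem_of_star (hP : Star E Y S P) {α : MulAut P} (hα : α ∈ (sysD hd D).autGroup P)
    (hc : (orderOf α).Coprime p) (x : P) :
    (x : Ω)⁻¹ * ((α x : P) : Ω) ∈ E.hyperfocalSubgroup p := by
  have hS := hd.pS
  have hPS := hP.1
  haveI := finite_of_le hPS
  have hαm := isMap_autFun hPS hα
  have hαF := isMap_sysD_of_sub hd D hαm
  have hst : ∀ z ∈ P, autFun α z ∈ P := fun z hz => autFun_mem α hz
  obtain ⟨s, hs, hl⟩ := (isMap_sysD_iff hd D hP).1 hαm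
  have hlit : ∀ i : ℕ, Lift E Y D P ((autFun α)^[i]) (emb D (s ^ i)) := fun i => by
    induction i with
    | zero => rw [pow_zero, emb_one hd]; exact lift_id hd hP
    | succ i ih =>
      rw [pow_succ', emb_mul hd hs (S.pow_mem hs i)]
      exact (ih.comp hd hl fun z hz => iterate_mem hst i hz).congr hd
        fun z hz => (Function.iterate_succ_apply' _ i z).symm
  obtain ⟨i, hi, hsi⟩ := exists_kill_exponent hS hc hs
  have hl1 : Lift E Y D P (autFun α) 1 := by
    have h := hlit i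
    rw [hsi, emb_one hd] at h
    exact h.congr hd fun z hz => by
      rw [autFun_pow α i ⟨z, hz⟩, hi, autFun_apply α hz]
  have hper : ∀ z ∈ P, (autFun α)^[orderOf α] z = z := fun z hz => by
    rw [autFun_pow α _ ⟨z, hz⟩, pow_orderOf_eq_one]
    rfl
  have hfixY : ∀ y ∈ Y, autFun α y = y := fun y hy => by
    refine emb_inj (D := D) hd (hαF.mem (hP.2.1 hy)) (hd.leY hy) ?_
    rw [hl1.2.2 y hy, one_mul, inv_one, mul_one]
  have hw : ∀ z ∈ P, z⁻¹ * autFun α z ∈ T' := fun z hz => by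
    have h := ((mem_H₀ hd).1 (hl1.apply hd hz)).1
    rw [one_mul, inv_one, mul_one, ← emb_inv hd (hPS hz),
      ← emb_mul hd (S.inv_mem (hPS hz)) (hαF.mem hz)] at h
    exact (emb_mem_H hd (S.mul_mem (S.inv_mem (hPS hz)) (hαF.mem hz))).1 h
  set V := P ⊓ T with hV
  have hPV : P ≤ normalizer (V : Set Ω) := CfsgLib.Comp.le_normalizer_inf P.le_normalizer
    (hPS.trans (StronglyClosed.le_normalizer hd.closedT))
  have hαV : ∀ v ∈ V, autFun α v ∈ V := fun v hv =>
    ⟨hst v hv.1, StronglyClosed.apply_mem hd.closedT hαF hv.1 hv.2⟩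
  have hwT : ∀ z ∈ P, z⁻¹ * autFun α z ∈ V := fun z hz => by
    have hwP : z⁻¹ * autFun α z ∈ P := P.mul_mem (P.inv_mem hz) (hst z hz)
    refine sub_mem_of_coprime hS hαF hst inf_le_left hPV hαV hz ?_ hc (hper z hz)
    obtain ⟨t, ht, y, hy, e⟩ := hd.split (hw z hz)
    have htP : t ∈ P := by
      have h := P.mul_mem hwP (P.inv_mem (hP.2.1 hy))
      rwa [← e, mul_inv_cancel_right] at h
    have hαt := hαV t ⟨htP, ht⟩
    have h1 : t⁻¹ * autFun α t ∈ V := V.mul_mem (V.inv_mem ⟨htP, ht⟩) hαt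
    rw [← e, hαF.map_mul htP (hP.2.1 hy), hfixY y hy,
      show (t * y)⁻¹ * (autFun α t * y) = y⁻¹ * (t⁻¹ * autFun α t) * y by group,
      mul_assoc y⁻¹, hd.commute h1.2 hy, inv_mul_cancel_left]
    exact h1
  -- on `V` the automorphism lies in `E`
  obtain ⟨e, he, hex⟩ := TopData.Th.inv_E hd.ctx hl1.2.1 1 rfl
  have hVT' : V ≤ P ⊓ T' := inf_le_inf_left P hd.T_le
  have hαe : ∀ v ∈ V, e v = autFun α v := fun v hv => by
    obtain ⟨h1, h2, h3⟩ := hex v (hVT' hv)
    rw [one_mul, inv_one, mul_one] at h3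
    exact (congrArg Subtype.val (D.M.inj h3)).symm
  have hVE : IsMap E V (autFun α) :=
    hd.res V _ inf_le_right ((he.mono hVT').congr hαe)
  haveI : Finite V := finite_of_le (inf_le_left.trans hPS)
  have hiV := img_self hVE hαV
  have hVc : (orderOf (hVE.toAut hiV)).Coprime p :=
    coprime_toAut hc inf_le_left hVE hiV fun _ _ => rfl
  set U := E.hyperfocalSubgroup p with hU
  have hUc := hyperfocal_closed hS hd.norm
  have hUV : ∀ v ∈ V, v⁻¹ * autFun α v ∈ U := fun v hv => by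
    have h := sub_mem_hyperfocal_of_coprime (p := p) inf_le_right (hVE.toAut_mem hiV) hVc ⟨v, hv⟩
    rwa [IsMap.toAut_apply] at h
  have hPU : P ≤ normalizer ((P ⊓ U : Subgroup Ω) : Set Ω) :=
    CfsgLib.Comp.le_normalizer_inf P.le_normalizer
      (hPS.trans (StronglyClosed.le_normalizer hUc))
  have hfin : (x : Ω)⁻¹ * autFun α x ∈ P ⊓ U := by
    refine sub_mem_of_coprime hS hαF hst inf_le_left hPU
      (fun v hv => ⟨hst v hv.1, StronglyClosed.apply_mem hUc hαF hv.1 hv.2⟩) x.2 ?_ hc (hper x x.2)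
    have hv := hwT x x.2
    exact ⟨P.mul_mem (P.inv_mem hv.1) (hst _ hv.1), hUV _ hv⟩
  have := hfin.2
  rwa [autFun_apply α x.2] at this

/-- The hyperfocal subgroup of the system is that of `E`. -/
theorem hyperfocal_sysD : (sysD hd D).hyperfocalSubgroup p = E.hyperfocalSubgroup p := by
  have hS := hd.pS
  have hUc := hyperfocal_closed hS hd.norm
  set U := E.hyperfocalSubgroup p with hU
  have hN : ∀ a ∈ S, ∀ y ∈ U, a * y * a⁻¹ ∈ U := fun a ha y hy =>
    StronglyClosed.conj_mem hUc ha hy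
  refine le_antisymm ?_ (hyperfocal_le_of _ fun P hP α hα hc x =>
    sub_mem_hyperfocal_of_coprime (hP.trans hd.leT) ((autGroup_mem_iff (hP.trans hd.leT)).2
      (E_sub_sysD hd D P ((autGroup_mem_iff hP).1 hα))) hc x)
  have hsat := isSaturated_sysD hd D
  have hle : sysD hd D ≤ conjModSys (sysD hd D) U hN := by
    refine alperin hS hsat fun R hR => ?_
    have hRn : (sysD hd D).IsFullyNormalized R :=
      hR.elim (fun e => by rw [e]; exact fullyNormalized_top _) fun e => e.2.1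
    haveI := finite_of_le hRn.1
    have hstar : Star E Y S R := by
      rcases hR with e | hR
      · exact star_of_top hd e.le (hd.ctx.le.trans e.ge)
      · exact star_of_radical hd D hR.1 (essential_isRadical hS hsat hR)
    obtain ⟨W, hW⟩ := (fullyAutomized_of_fullyNormalized hS hsat hRn).2
    refine Subgroup.subgroupOf_eq_top.1 (eq_top_of_sylow_le W ?_ fun x hx => ?_)
    · rw [hW]
      exact Subgroup.comap_mono (autInducedBy_le_autGroup hRn.1)
    · refine (autGroup_iff_isMap hRn.1 fun y => (autFun_apply _ y.2).symm).2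
        ((isMap_conjModSys_iff hN).2 ⟨isMap_autFun hRn.1 x.2, 1, S.one_mem, fun y hy => ?_⟩)
      rw [one_mul, inv_one, mul_one, autFun_apply _ hy]
      exact sub_mem_of_star hd D hstar x.2 (by rwa [Subgroup.orderOf_coe]) ⟨y, hy⟩
  refine hyperfocal_le_of _ fun P hP α hα hc x => ?_
  obtain ⟨-, a, ha, hax⟩ := (isMap_conjModSys_iff hN).1
    (le_iff_isMap.1 hle P _ (isMap_autFun hP hα))
  obtain ⟨i, hi, hai⟩ := exists_kill_exponent hS hc ha
  have hit : ∀ j : ℕ, (a ^ j * (x : Ω) * (a ^ j)⁻¹)⁻¹ * (autFun α)^[j] x ∈ U := fun j => by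
    induction j with
    | zero => simp
    | succ j ih =>
      rw [Function.iterate_succ_apply']
      set z := (autFun α)^[j] (x : Ω) with hz
      have hzP : z ∈ P := iterate_mem (fun y hy => autFun_mem α hy) j x.2
      have h2 := U.mul_mem (hN a ha _ ih) (hax z hzP)
      rwa [show (a ^ (j + 1) * (x : Ω) * (a ^ (j + 1))⁻¹)⁻¹ * autFun α z =
        a * ((a ^ j * (x : Ω) * (a ^ j)⁻¹)⁻¹ * z) * a⁻¹ *
          ((a * z * a⁻¹)⁻¹ * autFun α z) by rw [pow_succ']; group]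
  have h := hit i
  rw [hai, one_mul, inv_one, mul_one, autFun_pow α i x, hi] at h
  exact h

/-! ### The maps inside `T` -/

/-- The maps of the system are, on `T`, conjugations after maps of `E`. -/
def Rep (S : Subgroup Ω) (E : FusionSystem T) (P : Subgroup Ω) (f : Ω → Ω) : Prop :=
  ∃ s ∈ S, ∃ e, IsMap E (P ⊓ T) e ∧ ∀ x ∈ P ⊓ T, f x = s * e x * s⁻¹

theorem rep_comp {s t : Ω} (hs : s ∈ S) {e₁ e₂ : Ω → Ω} (he₁ : IsMap E (P ⊓ T) e₁)
    (hf : ∀ x ∈ P ⊓ T, f x = s * e₁ x * s⁻¹) (he₂ : IsMap E (Q ⊓ T) e₂)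
    (hg : ∀ x ∈ Q ⊓ T, g x = t * e₂ x * t⁻¹) (hmem : ∀ x ∈ P ⊓ T, f x ∈ Q ⊓ T) :
    ∃ e, IsMap E (P ⊓ T) e ∧ ∀ x ∈ P ⊓ T, g (f x) = t * s * e x * (t * s)⁻¹ := by
  obtain ⟨-, -, hconj, -⟩ := isInvariantIn_iff.1 hd.norm.1.2.2
  have ha : IsMap F T fun x => s⁻¹ * x * s⁻¹⁻¹ := isMap_conj F hd.leT (S.inv_mem hs)
  obtain ⟨k, hk, hkx⟩ := hconj _ ha _ e₂ he₂
  have heq : ∀ x ∈ P ⊓ T, e₁ x = s⁻¹ * f x * s⁻¹⁻¹ := fun x hx => by rw [hf x hx]; group
  have hmk : ∀ x ∈ P ⊓ T, e₁ x ∈ img (Q ⊓ T) (fun x => s⁻¹ * x * s⁻¹⁻¹) := fun x hx => by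
    rw [heq x hx]
    exact (ha.mono inf_le_right).apply_mem_img (hmem x hx)
  refine ⟨fun x => k (e₁ x), he₁.comp hk hmk, fun x hx => ?_⟩
  show g (f x) = t * s * k (e₁ x) * (t * s)⁻¹
  rw [hg _ (hmem x hx), show k (e₁ x) = s⁻¹ * e₂ (f x) * s⁻¹⁻¹ by
    rw [heq x hx]; exact hkx _ (hmem x hx)]
  group

theorem rep_conj (hP : P ≤ S) {s : Ω} (hs : s ∈ S) : Rep S E P fun x => s * x * s⁻¹ :=
  ⟨s, hs, id, isMap_id E inf_le_right, fun x _ => rfl⟩

theorem rep_congr (h : Rep S E P f) (hfg : ∀ x ∈ P, f x = g x) : Rep S E P g := by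
  obtain ⟨s, hs, e, he, hx⟩ := h
  exact ⟨s, hs, e, he, fun x hxP => (hfg x hxP.1).symm.trans (hx x hxP)⟩

theorem rep_inv (hf : IsMap F P f) (h : Rep S E P f) {k : Ω → Ω} (hk : ∀ x ∈ P, k (f x) = x) :
    Rep S E (img P f) k := by
  obtain ⟨s, hs, e, he, hx⟩ := h
  obtain ⟨j, hj, hjx, hjy, -⟩ := he.exists_inv
  obtain ⟨-, -, hconj, -⟩ := isInvariantIn_iff.1 hd.norm.1.2.2
  have ha : IsMap F T fun x => s * x * s⁻¹ := isMap_conj F hd.leT hs
  obtain ⟨l, hl, hlx⟩ := hconj _ ha _ j hj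
  have key : ∀ y ∈ img P f ⊓ T, ∃ x ∈ P ⊓ T, y = s * e x * s⁻¹ ∧ f x = y := fun y hy => by
    obtain ⟨x, hxP, rfl⟩ := hf.mem_img.1 hy.1
    obtain ⟨k', hk', hk'x, -, -⟩ := hf.exists_inv
    have hxT : x ∈ T := by
      have := StronglyClosed.apply_mem hd.closedT hk' hy.1 hy.2
      rwa [hk'x x hxP] at this
    exact ⟨x, ⟨hxP, hxT⟩, hx x ⟨hxP, hxT⟩, rfl⟩
  have hsub : img P f ⊓ T ≤ img (img (P ⊓ T) e) fun x => s * x * s⁻¹ := fun y hy => by
    obtain ⟨x, hxP, rfl, -⟩ := key y hy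
    exact (ha.mono he.img_le).apply_mem_img (he.apply_mem_img hxP)
  refine ⟨s⁻¹, S.inv_mem hs, l, hl.mono hsub, fun y hy => ?_⟩
  obtain ⟨x, hxP, rfl, hfx⟩ := key y hy
  rw [hlx _ (he.apply_mem_img hxP), hjx x hxP, ← hfx, hk x hxP.1]
  group

theorem rep_of_isMap (hf : IsMap (sysD hd D) P f) : Rep S E P f := by
  let G := predSys F (Rep S E)
    (fun P f g _ h hfg => rep_congr hd h hfg)
    (fun P s hP hs => rep_conj hd hP hs)
    (fun P Q f g hf hg h₁ h₂ hmem => by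
      obtain ⟨s, hs, e₁, he₁, hx₁⟩ := h₁
      obtain ⟨t, ht, e₂, he₂, hx₂⟩ := h₂
      obtain ⟨e, he, hex⟩ := rep_comp hd hs he₁ hx₁ he₂ hx₂ fun x hx =>
        ⟨hmem x hx.1, StronglyClosed.apply_mem hd.closedT hf hx.1 hx.2⟩
      exact ⟨t * s, S.mul_mem ht hs, e, he, hex⟩)
    (fun P f k hf h _ hk => rep_inv hd hf h hk)
  have hG : hf.toHom ∈ G.Hom P := hf.toHom_mem G fun Q hQ φ hφ => by
    refine ⟨hφ.1, ?_⟩
    obtain ⟨s, hs, hl⟩ := hφ.2 hQ
    obtain ⟨e, he, hex⟩ := TopData.Th.inv_E hd.ctx hl.2.1 (emb D s) rfl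
    have hQT : Q ⊓ T ≤ Q ⊓ T' := inf_le_inf_left Q hd.T_le
    refine ⟨s, hs, e, hd.res _ _ inf_le_right (he.mono hQT), fun x hx => ?_⟩
    obtain ⟨hfx, hex', e1⟩ := hex x (hQT hx)
    rw [← emb_of_mem D hfx, ← emb_of_mem D (D.M.le hex'),
      ← emb_conj hd hs (hd.ctx.le hex')] at e1
    exact emb_inj hd ((isMap_of_hom hφ.1).mem hx.1)
      (S.mul_mem (S.mul_mem hs (hd.ctx.le hex')) (S.inv_mem hs)) e1
  exact (isMap_predSys_iff.1 (⟨hf.toHom, hG, fun _ => rfl⟩ : IsMap G P f)).2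

/-- The automorphisms of order prime to `p` of the subgroups of `T` lie in `E`. -/
theorem coprime_mem_E (hP : P ≤ T) {α : MulAut P} (hα : α ∈ (sysD hd D).autGroup P)
    (hc : (orderOf α).Coprime p) : α ∈ E.autGroup P := by
  obtain ⟨s, hs, e₁, he₁, hx₁⟩ := rep_of_isMap hd D (isMap_autFun (hP.trans hd.leT) hα)
  have hst : ∀ z ∈ P, autFun α z ∈ P := fun z hz => autFun_mem α hz
  have hit : ∀ i : ℕ, ∃ e, IsMap E (P ⊓ T) e ∧
      ∀ x ∈ P ⊓ T, (autFun α)^[i] x = s ^ i * e x * (s ^ i)⁻¹ := fun i => by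
    induction i with
    | zero => exact ⟨id, isMap_id E inf_le_right, fun x _ => by simp⟩
    | succ i ih =>
      obtain ⟨e, he, hex⟩ := ih
      obtain ⟨e', he', he'x⟩ := rep_comp hd (S.pow_mem hs i) he hex he₁ hx₁ fun x hx =>
        ⟨iterate_mem hst i hx.1, hP (iterate_mem hst i hx.1)⟩
      refine ⟨e', he', fun x hx => ?_⟩
      rw [Function.iterate_succ_apply', pow_succ']
      exact he'x x hx
  obtain ⟨i, hi, hsi⟩ := exists_kill_exponent hd.pS hc hs
  obtain ⟨e, he, hex⟩ := hit i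
  refine (autGroup_iff_isMap hP fun y => (autFun_apply α y.2).symm).2
    ((he.mono (le_inf le_rfl hP)).congr fun y hy => ?_)
  have h := hex y ⟨hy, hP hy⟩
  rw [hsi, one_mul, inv_one, mul_one, autFun_pow α i ⟨y, hy⟩, hi] at h
  rw [autFun_apply α hy]
  exact h.symm

/-- The residual of `E` has index a power of `p` in the system. -/
theorem index_sysD {U : Subgroup Ω} {E₁ : FusionSystem U} (hU : U = E.hyperfocalSubgroup p)
    (hE₁i : E₁.HasPPowerIndexIn E p) : E₁.HasPPowerIndexIn (sysD hd D) p := by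
  have hUT : U ≤ T := hU ▸ hyperfocal_le E p
  haveI := finite_of_le hd.leT
  refine ⟨fun P φ hφ => E_sub_sysD hd D P (hE₁i.1 P hφ), (hyperfocal_sysD hd D).le.trans hU.ge,
    fun P hP => ?_⟩
  rw [Subgroup.map_le_iff_le_comap]
  refine (Subgroup.closure_le _).2 ?_
  rintro ⟨α, hα⟩ hc
  have hc' : (orderOf α).Coprime p := by
    rw [← Subgroup.orderOf_mk α hα]; exact hc
  exact CfsgLib.Comp.Fus.coprime_mem_autGroup hE₁i hP
    (coprime_mem_E hd D (hP.trans hUT) hα hc') hc'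

end CfsgLib.Fusion.PRE
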